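import Cfsg.Agent.Lib.Classical.TensorWreathT.Pairs

set_option autoImplicit false
set_option linter.unusedSectionVars false

/-!
Characteristic two: when the elements next to a root are scalar, the group is monomial.
-/

namespace CfsgLib.Classical.TensorWreathT

open Matrix CfsgLib.Classical.TensorWreath
open CfsgLib.Classical.TensorSymp (adj Sp AForm tv)
open CfsgLib.Classical.TensorWreathS (JJ nu SmallAll nu_sq nu_ne_zero nu_mul nu_mulVec transpose_pureM)
open CfsgLib.Classical.TensorWreathU (mem_centralizer_of_closure)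
open scoped MatrixGroups Kronecker

variable {F : Type*} [Field F] [Finite F] {τ : Type} [Fintype τ] [DecidableEq τ] {m : ℕ}
variable {J : Matrix (Fin m) (Fin m) F} {M : Subgroup (GL (Ix τ m) F)}

/-- Many pairs are increasing. -/
theorem lex_one_bound (hm : 6 ≤ m) :
    2 * m < (Finset.univ.filter fun v : Fin (2 * 1) → Fin m => Lex (pr v)).card := by
  obtain ⟨S, hS⟩ : ∃ S, S = Finset.univ.filter fun v : Fin (2 * 1) → Fin m => Lex (pr v) := ⟨_, rfl⟩
  rw [← hS]
  obtain ⟨sw, hsw⟩ : ∃ sw : (Fin (2 * 1) → Fin m) → Fin (2 * 1) → Fin m, ∀ v, sw v = ![v 1, v 0] := ⟨_, fun _ => rfl⟩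
  have hsub : (Finset.univ : Finset (Fin (2 * 1) → Fin m)) ⊆
      S ∪ S.image sw ∪ (Finset.univ : Finset (Fin m)).image fun a => ![a, a] := by
    intro v _
    have mem : ∀ w : Fin (2 * 1) → Fin m, w 0 < w 1 → w ∈ S := fun w hw => by
      rw [hS, Finset.mem_filter]
      exact ⟨Finset.mem_univ _, 0, fun u hu => absurd hu (by omega), hw⟩
    simp only [Finset.mem_union, Finset.mem_image]
    rcases lt_trichotomy (v 0) (v 1) with h | h | h
    · exact Or.inl (Or.inl (mem v h))
    · exact Or.inr ⟨v 0, Finset.mem_univ _, funext fun x => by fin_cases x <;> simp [h]⟩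
    · exact Or.inl (Or.inr ⟨![v 1, v 0], mem _ (by simpa using h), funext fun x => by
        rw [hsw]; fin_cases x <;> simp⟩)
  have h1 := Finset.card_le_card hsub
  rw [Finset.card_univ, Fintype.card_fun, Fintype.card_fin, Fintype.card_fin] at h1
  have h2 := (Finset.card_union_le (S ∪ S.image sw) ((Finset.univ : Finset (Fin m)).image fun a => ![a, a])).trans
    (add_le_add ((Finset.card_union_le S (S.image sw)).trans (add_le_add le_rfl Finset.card_image_le))
      Finset.card_image_le)
  rw [Finset.card_univ, Fintype.card_fin] at h2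
  have h3 : 6 * m ≤ m ^ (2 * 1) := by
    rw [show 2 * 1 = 2 from rfl, pow_two]; exact Nat.mul_le_mul_right m hm
  have := h1.trans h2
  omega

namespace Hyp

variable (H : Hyp J M)
include H

/-- A pure involution of the group commutes with a root of each factor. -/
theorem exists_root_commute {z : GL (Ix τ m) F} (hzM : z ∈ M) {g : τ → Matrix (Fin m) (Fin m) F}
    (hz : z.1 = pureM g) (hz2 : z * z = 1) (l : τ) : ∃ y ∈ M, IsRoot J y ∧ y * z = z * y := by
  haveI := H.neZero
  haveI : Nonempty (Fin m) := ⟨0⟩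
  have h3 : 3 ≤ m := by have := H.six; omega
  have hJ := H.hJ
  have hzz : pureM (g * g) * permM F m (1 : Equiv.Perm τ) = 1 := by
    rw [permM_one, mul_one, ← pureM_mul, ← hz, ← Units.val_mul, hz2, Units.val_one]
  obtain ⟨c, hc⟩ := (eq_one_of_pure_perm h3 hzz).2 l
  have hd : (pureM g).det ≠ 0 := by
    rw [← hz]; exact ((Matrix.isUnit_iff_isUnit_det _).1 z.isUnit).ne_zero
  have hgl := det_ne_zero_of_pureM hd l
  obtain ⟨d, hdd⟩ := exists_sq H.two c
  have hd0 : d ≠ 0 := fun e => by
    rw [← hdd, e, mul_zero, zero_smul, Pi.mul_apply] at hc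
    have := congrArg Matrix.det hc
    rw [Matrix.det_mul, Matrix.det_zero] at this
    exact hgl (mul_self_eq_zero.1 this)
  obtain ⟨G, hG⟩ : ∃ G, G = d⁻¹ • g l := ⟨_, rfl⟩
  have hGG : G * G = 1 := by
    rw [hG, smul_mul_smul_comm, show g l * g l = c • 1 from hc, ← hdd, smul_smul,
      show d⁻¹ * d⁻¹ * (d * d) = 1 by field_simp, one_smul]
  -- the adjoint
  have hJi : JJ J τ * pureM (fun _ : τ => J⁻¹) = 1 := by
    rw [pureM_mul, ← pureM_one (τ := τ) (m := m) (F := F)]
    exact congrArg pureM (funext fun _ => Matrix.mul_nonsing_inv J hJ.isUnit_det)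
  have hadj : pureM ((fun _ : τ => J⁻¹) * ((fun j => (g j)ᵀ) * ((fun _ : τ => J) * g))) *
      permM F m (1 : Equiv.Perm τ) = 1 := by
    rw [permM_one, mul_one, ← pureM_mul, ← pureM_mul, ← pureM_mul, ← transpose_pureM, ← hz]
    have h : Sp (JJ J τ) z.1 := H.le z hzM
    unfold Sp at h
    rw [← mul_assoc z.1ᵀ, h, mul_eq_one_comm.1 hJi]
  obtain ⟨c', hc'⟩ := (eq_one_of_pure_perm h3 hadj).2 l
  have hG1 : adj J G * G = (d⁻¹ * d⁻¹ * c') • 1 := by
    rw [hG, hJ.adj_smul, smul_mul_smul_comm, adj, Matrix.mul_assoc, Matrix.mul_assoc,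
      show J⁻¹ * ((g l)ᵀ * (J * g l)) = c' • 1 from hc', smul_smul]
  obtain ⟨lam, hlam⟩ : ∃ lam, lam = d⁻¹ * d⁻¹ * c' := ⟨_, rfl⟩
  rw [← hlam] at hG1
  have hadjG : adj J G = lam • G := by
    calc adj J G = adj J G * G * G := by rw [mul_assoc, hGG, mul_one]
      _ = lam • G := by rw [hG1, smul_mul_assoc, one_mul]
  have hlam1 : lam = 1 := by
    have h := hJ.adj_mul G G
    rw [hGG, hJ.adj_one, hadjG, smul_mul_smul_comm, hGG] at h
    have h11 := congrFun₂ h 0 0
    simp only [Matrix.smul_apply, Matrix.one_apply_eq, smul_eq_mul, mul_one] at h11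
    exact sub_eq_zero.1 (mul_self_eq_zero.1
      (show (lam - 1) * (lam - 1) = 0 by linear_combination -h11 - (lam - 1) * H.two))
  rw [hlam1, one_smul] at hadjG
  obtain ⟨u, hu, hGu⟩ : ∃ u, u ≠ 0 ∧ G *ᵥ u = u := by
    by_cases hG1' : G = 1
    · exact ⟨Pi.single 0 1, by simp, by rw [hG1', Matrix.one_mulVec]⟩
    obtain ⟨x, hx⟩ : ∃ x, (G - 1) *ᵥ x ≠ 0 := by
      by_contra hc
      push Not at hc
      exact hG1' (sub_eq_zero.1 (Matrix.ext_iff_mulVec.2 fun x => by rw [hc, Matrix.zero_mulVec]))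
    refine ⟨_, hx, ?_⟩
    rw [Matrix.mulVec_mulVec, mul_sub, hGG, mul_one]
    refine congrArg (· *ᵥ x) ?_
    rw [sub_two H.two, sub_two H.two, add_comm]
  obtain ⟨y, hyM, hy⟩ := H.exists_root l hu
  refine ⟨y, hyM, ⟨l, u, hy⟩, root_comm_pure hy hz ?_⟩
  have e1 : G * nu J u = nu J u := by rw [nu, Matrix.mul_vecMulVec, hGu]
  have e2 : nu J u * G = nu J u := by
    rw [nu, Matrix.vecMulVec_mul, ← Matrix.mulVec_transpose]
    congr 1
    have e3 : Gᵀ * J = J * G := by
      conv_rhs => rw [← hadjG, adj, ← Matrix.mul_assoc, ← Matrix.mul_assoc, Matrix.mul_nonsing_inv J hJ.isUnit_det,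
        Matrix.one_mul]
    rw [Matrix.mulVec_mulVec, e3, ← Matrix.mulVec_mulVec, hGu]
  have e4 : g l = d • G := by rw [hG, smul_smul, mul_inv_cancel₀ hd0, one_smul]
  rw [e4, smul_mul_assoc, mul_smul_comm, e1, e2]

variable [Nontrivial τ] (hS : SmallAll J M) (hlow : Low J τ)
include hS hlow

/-- A conjugate which is no root is conjugate to every root. -/
theorem conj_to_root {k y : GL (Ix τ m) F} (hk : RootConj J M k) (hnon : ¬ IsRoot J k) (hyM : y ∈ M)
    (hy : IsRoot J y) : ∃ c ∈ Subgroup.closure ({k, y} : Set (GL (Ix τ m) F)), y = c * k * c⁻¹ := by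
  have hyR := rootConj_of_root hy hyM
  rcases dihedral_cases (H.conj_sq hk) (H.conj_sq hyR) with h | ⟨w, hw, -, hw1, hwk, hwy, hcases⟩
  · exact h
  exfalso
  have hcl := closure_pair_le hk.mem hyM
  have hconj : RootConj J M (w * y) := by
    rcases hcases with ⟨-, ⟨c', hc', e2⟩⟩ | ⟨-, ⟨c', hc', e2⟩⟩
    · exact e2 ▸ hyR.conj (hcl hc')
    · exact e2 ▸ hk.conj (hcl hc')
  have hy2 := H.conj_sq hyR
  have hqy : w * y * y = y * (w * y) := by rw [← mul_assoc, ← hwy]
  have hq := H.root_of_commute hS hlow hconj hy hqy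
  have hyq : y * (w * y) = w := by rw [← hqy, mul_assoc, hy2, mul_one]
  exact hnon (H.root_of_mono hk (H.mono_two hS hlow hk.mem hyM hy hq hqy.symm (by rw [hyq]; exact hw1)
    (by rw [hyq, hwk])))

/-- All the conjugates of roots are roots. -/
theorem all_root {k : GL (Ix τ m) F} (hk : RootConj J M k) : IsRoot J k := by
  classical
  haveI := H.neZero
  by_contra hnon
  have h3 : 3 ≤ m := by have := H.six; omega
  have hJ := H.hJ
  obtain ⟨i, j, hij⟩ := exists_pair_ne τ
  obtain ⟨e, he⟩ : ∃ e : Fin m → F, e ≠ 0 := ⟨Pi.single 0 1, by simp⟩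
  obtain ⟨x1, hx1M, hx1⟩ := H.exists_root i he
  obtain ⟨x2, hx2M, hx2⟩ := H.exists_root j he
  obtain ⟨w, hw⟩ : ∃ w, w = x1 * x2 := ⟨_, rfl⟩
  have h12 : x1 * x2 = x2 * x1 := by
    rw [commute_val_iff hx2.2, hx1.2, add_mul, mul_add, one_mul, mul_one, embM_comm hij]
  obtain ⟨f, hf⟩ : ∃ f : τ → Matrix (Fin m) (Fin m) F,
      f = fun l => if l = i then 1 + nu J e else if l = j then 1 + nu J e else 1 := ⟨_, rfl⟩
  have hwv : w.1 = pureM f := by rw [hw, hf, pair_val hij hx1 hx2]
  have hff : ∀ l, f l * f l = 1 := fun l => by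
    simp only [hf]
    split_ifs <;> first | exact root_sq_one hJ H.two _ | exact one_mul _
  have hfi : f i = 1 + nu J e := by rw [hf]; simp
  have hfj : f j = 1 + nu J e := by rw [hf]; simp [Ne.symm hij]
  have hwM : w ∈ M := hw ▸ M.mul_mem hx1M hx2M
  have hwm : Mono w.1 := hwv ▸ mono_pure f
  have hw2 : w * w = 1 := by
    rw [hw]
    calc x1 * x2 * (x1 * x2) = x1 * x2 * (x2 * x1) := by rw [h12]
      _ = x1 * (x2 * x2) * x1 := by group
      _ = 1 := by rw [H.root_sq ⟨j, e, hx2⟩, mul_one, H.root_sq ⟨i, e, hx1⟩]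
  have hw1 : x1 * x2 ≠ 1 := fun h => by
    have e1 : f = fun _ => 1 := pure_inj h3 H.two hff (fun _ => one_mul 1) (by
      rw [← hwv, hw, h, Units.val_one, show (fun _ : τ => (1 : Matrix (Fin m) (Fin m) F)) = 1 from rfl, pureM_one])
    have h2 := congrFun e1 i
    rw [hfi, add_eq_left] at h2
    exact nu_ne_zero hJ he h2
  have twoMono : ∀ z ∈ M, z * w = w * z → Mono z.1 := fun z hz h =>
    H.mono_two hS hlow hz hx1M ⟨i, e, hx1⟩ ⟨j, e, hx2⟩ h12 hw1 (hw ▸ h)
  rcases dihedral_cases (H.conj_sq hk) hw2 with ⟨c, hc, hcw⟩ | ⟨z, hz, hzz, hz1, hzk, hzw, hcases⟩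
  · -- `w` would be a root
    have hwR : RootConj J M w := hcw ▸ hk.conj (closure_pair_le hk.mem hwM hc)
    obtain ⟨o, s, hs, hsv⟩ := H.root_of_mono hwR hwm
    have e1 := pure_inj h3 H.two hff (g := Function.update 1 o (1 + nu J s)) (fun l => by
      by_cases hl : l = o
      · subst hl; rw [Function.update_self, root_sq_one hJ H.two]
      · rw [Function.update_of_ne hl, Pi.one_apply, one_mul]) (by
      rw [← hwv, hsv, ← embM_one (F := F) (m := m) o, ← embM_add]; rfl)
    have one : ∀ l, f l = 1 + nu J e → l = o := fun l hl => by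
      by_contra hne
      rw [e1, Function.update_of_ne hne, Pi.one_apply, left_eq_add] at hl
      exact nu_ne_zero hJ he hl
    exact hij ((one i hfi).trans (one j hfj).symm)
  have hcl := closure_pair_le hk.mem hwM
  have hzM := hcl hz
  have hzm := twoMono z hzM hzw
  have conjC : ∀ y, y ∈ M → IsRoot J y → y * z = z * y →
      ∃ c ∈ M, c * z = z * c ∧ y = c * k * c⁻¹ := by
    intro y hyM hy hyz
    obtain ⟨c, hc, hcy⟩ := H.conj_to_root hS hlow hk hnon hyM hy
    exact ⟨c, closure_pair_le hk.mem hyM hc, mem_centralizer_of_closure hzk.symm hyz hc, hcy⟩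
  rcases hcases with ⟨⟨c₀, hc₀, e0⟩, -⟩ | ⟨⟨c₀, hc₀, e0⟩, ⟨c₁, hc₁, e1⟩⟩
  · -- `z` times `k` is a conjugate of `k`
    have hzkR : RootConj J M (z * k) := e0 ▸ hk.conj (hcl hc₀)
    obtain ⟨g, σ, hgσ⟩ := hzm
    have hgz : pureM g * permM F m σ * (pureM g * permM F m σ) = 1 := by
      rw [← hgσ, ← Units.val_mul, hzz, Units.val_one]
    have hσ : σ = 1 := by
      by_contra hne
      obtain ⟨a, ha⟩ : ∃ a, σ a ≠ a := by
        by_contra hh
        push Not at hh
        exact hne (Equiv.ext hh)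
      have hb := pairs_bound h3 hgz (s := 1) ![a, σ a]
        (by intro x y; fin_cases x <;> fin_cases y <;> simp [ha, Ne.symm ha])
        (fun u => by fin_cases u; rfl)
      rw [← hgσ, card_ix a] at hb
      have hk2 := H.conj_sq hk
      have hr : (z.1 - 1).rank ≤ 2 * Fintype.card (Ix (Rest a) m) := by
        have e : z = z * k * k := by rw [mul_assoc, hk2, mul_one]
        rw [e, Units.val_mul, show (z * k).1 * k.1 - 1 = ((z * k).1 - 1) * k.1 + (k.1 - 1) by noncomm_ring, two_mul]
        exact (rank_add_le' _ _).trans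
          (add_le_add ((Matrix.rank_mul_le_left _ _).trans (H.rank_le hzkR a)) (H.rank_le hk a))
      have hL := lex_one_bound H.six
      have hpos : 0 < m * Fintype.card (Ix (Rest a) m) := Nat.mul_pos (by omega) Fintype.card_pos
      have h4 := lt_of_lt_of_le (Nat.mul_lt_mul_of_pos_right hL hpos) (hb.trans (Nat.mul_le_mul_right _ hr))
      rw [show 2 * 1 = 2 from rfl, pow_two] at h4
      nlinarith
    subst hσ
    rw [permM_one, mul_one] at hgσ
    obtain ⟨y, hyM, hy, hyz⟩ := H.exists_root_commute hzM hgσ hzz i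
    obtain ⟨c, hcM, hcz, hcy⟩ := conjC y hyM hy hyz
    have hzy : z * y = c * (z * k) * c⁻¹ := by rw [hcy, ← mul_assoc c z, hcz]; group
    have hR : RootConj J M (z * y) := hzy ▸ hzkR.conj hcM
    have hq := H.root_of_commute hS hlow hR hy (by rw [← mul_assoc, hyz])
    have hy2 := H.root_sq hy
    have hyq : y * (z * y) = z := by rw [← mul_assoc, hyz, mul_assoc, hy2, mul_one]
    exact hnon (H.root_of_mono hk (H.mono_two hS hlow hk.mem hyM hy hq (by rw [hyq, mul_assoc, hy2, mul_one])
      (by rw [hyq]; exact hz1) (by rw [hyq, hzk])))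
  · -- `z` times `w` is a root
    have hR : RootConj J M (z * w) := e1 ▸ hk.conj (hcl hc₁)
    have hm' : Mono (z * w).1 := by rw [Units.val_mul]; exact hzm.mul hwm
    obtain ⟨o, s, hs, hsv⟩ := H.root_of_mono hR hm'
    obtain ⟨p, hp, hpo⟩ : ∃ p, f p = 1 + nu J e ∧ p ≠ o := by
      by_cases ho : i = o
      · exact ⟨j, hfj, fun h => hij (ho.trans h.symm)⟩
      · exact ⟨i, hfi, ho⟩
    obtain ⟨fz, hfz⟩ : ∃ fz : τ → Matrix (Fin m) (Fin m) F, fz = Function.update (1 : τ → Matrix (Fin m) (Fin m) F) o (1 + nu J s) * f := ⟨_, rfl⟩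
    have hzv : z.1 = pureM fz := by
      have e : z = z * w * w := by rw [mul_assoc, hw2, mul_one]
      rw [e, Units.val_mul, hsv, hwv, hfz, ← embM_one (F := F) (m := m) o, ← embM_add, embM, pureM_mul]
    have hfzp : fz p = 1 + nu J e := by rw [hfz, Pi.mul_apply, Function.update_of_ne hpo, Pi.one_apply, one_mul, hp]
    obtain ⟨a, ha, hea⟩ := exists_indep_orth hJ (by rw [Fintype.card_fin]; exact h3) e
    have hae : (J *ᵥ a) ⬝ᵥ e = 0 := by rw [hJ.swap, hea, neg_zero]
    obtain ⟨y, hyM, hy⟩ := H.exists_root p (u := a) fun h => ha 0 (by rw [h, zero_smul])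
    have hyz : y * z = z * y := root_comm_pure hy hzv (by
      rw [hfzp, add_mul, mul_add, one_mul, mul_one, nu_mul, nu_mul, hea, hae, zero_smul, zero_smul])
    obtain ⟨c, hcM, hcz, hcy⟩ := conjC y hyM ⟨p, a, hy⟩ hyz
    obtain ⟨E, hE⟩ : ∃ E, E = c * c₀ := ⟨_, rfl⟩
    have hEM : E ∈ M := hE ▸ M.mul_mem hcM (hcl hc₀)
    have hzy : z * y = E * w * E⁻¹ := by
      calc z * y = c * (z * k) * c⁻¹ := by rw [hcy, ← mul_assoc c z, hcz]; group
        _ = _ := by rw [e0, hE]; group
    have hEm : Mono E.1 := by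
      have h1 : E⁻¹ * y * E * w = w * (E⁻¹ * y * E) := by
        have e2 : w = E⁻¹ * (z * y) * E := by rw [hzy]; group
        rw [e2]
        calc E⁻¹ * y * E * (E⁻¹ * (z * y) * E) = E⁻¹ * (y * z * y) * E := by group
          _ = E⁻¹ * (z * y * y) * E := by rw [hyz]
          _ = _ := by group
      have hR' : RootConj J M (E⁻¹ * y * E) := by
        have := (rootConj_of_root ⟨p, a, hy⟩ hyM).conj (M.inv_mem hEM)
        rwa [inv_inv] at this
      have hr := H.root_of_mono hR' (twoMono _ hR'.mem h1)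
      have hi := H.mono_of_root_image hS hlow (M.inv_mem hEM) hyM ⟨p, a, hy⟩ (by rwa [inv_inv])
      exact hi.inv E.inv_mul
    obtain ⟨h, σ, hEv⟩ := hEm
    have hd : (pureM h).det ≠ 0 := fun h0 => by
      have := ((Matrix.isUnit_iff_isUnit_det _).1 E.isUnit).ne_zero
      rw [hEv, Matrix.det_mul, h0, zero_mul] at this
      exact this rfl
    have hinv : ∀ l, h l * (h l)⁻¹ = 1 := nonsing_inv_of_pureM hd
    obtain ⟨fe, hfe⟩ : ∃ fe : τ → Matrix (Fin m) (Fin m) F, fe = fun l => h l * f (σ.symm l) * (h l)⁻¹ := ⟨_, rfl⟩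
    have hEw : (E * w * E⁻¹).1 = pureM fe := by
      have e2 : E.1 * w.1 = pureM fe * E.1 := by
        rw [hEv, hwv, mul_assoc, permM_mul_pureM, ← mul_assoc, ← mul_assoc, pureM_mul, pureM_mul]
        congr 1
        refine congrArg pureM (funext fun l => ?_)
        rw [hfe, Pi.mul_apply, Pi.mul_apply, mul_assoc (h l * _), mul_eq_one_comm.1 (hinv l), mul_one]
      rw [Units.val_mul, Units.val_mul, e2, mul_assoc, E.mul_inv, mul_one]
    obtain ⟨fy, hfy⟩ : ∃ fy : τ → Matrix (Fin m) (Fin m) F, fy = fz * Function.update (1 : τ → Matrix (Fin m) (Fin m) F) p (1 + nu J a) := ⟨_, rfl⟩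
    have hzyv : (z * y).1 = pureM fy := by
      rw [Units.val_mul, hzv, hy.2, hfy, ← embM_one (F := F) (m := m) p, ← embM_add, embM, pureM_mul]
    have he2 : ∀ l, fe l * fe l = 1 := fun l => by
      rw [hfe]
      calc h l * f (σ.symm l) * (h l)⁻¹ * (h l * f (σ.symm l) * (h l)⁻¹)
          = h l * (f (σ.symm l) * ((h l)⁻¹ * h l) * f (σ.symm l)) * (h l)⁻¹ := by simp only [mul_assoc]
        _ = 1 := by rw [mul_eq_one_comm.1 (hinv l), mul_one, hff, mul_one, hinv]
    have hy2' : ∀ l, fy l * fy l = 1 := fun l => by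
      have hz2' : ∀ l, fz l * fz l = 1 := fun l => by
        rw [hfz, Pi.mul_apply]
        by_cases hlo : l = o
        · subst hlo
          rw [Function.update_self]
          have hc : (1 + nu J s) * f l = f l * (1 + nu J s) := by
            have hwz : (z * w).1 * w.1 = w.1 * (z * w).1 := by
              rw [← Units.val_mul, ← Units.val_mul, mul_assoc, hw2, mul_one, ← mul_assoc w, ← hzw, mul_assoc, hw2,
                mul_one]
            rw [hsv, hwv, ← embM_one (F := F) (m := m) l, ← embM_add, embM, pureM_mul, pureM_mul] at hwz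
            have hu : ∀ q, Function.update (1 : τ → Matrix (Fin m) (Fin m) F) l (1 + nu J s) q = 1 ∨ q = l := fun q => by
              by_cases hq : q = l
              · exact Or.inr hq
              · exact Or.inl (by rw [Function.update_of_ne hq, Pi.one_apply])
            by_cases hl2 : f l = 1
            · rw [hl2, one_mul, mul_one]
            have hfl : f l = 1 + nu J e := by
              simp only [hf] at hl2 ⊢
              split_ifs at hl2 ⊢ <;> first | rfl | exact absurd rfl hl2
            rw [hfl]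
            have hd1 : (pureM (Function.update (1 : τ → Matrix (Fin m) (Fin m) F) l (1 + nu J s))).det ≠ 0 := by
              intro h0
              have := congrArg Matrix.det (show pureM (Function.update (1 : τ → Matrix (Fin m) (Fin m) F) l (1 + nu J s)) *
                pureM (Function.update (1 : τ → Matrix (Fin m) (Fin m) F) l (1 + nu J s)) = 1 by
                  rw [← embM, embM_mul, root_sq_one hJ H.two, embM_one])
              rw [Matrix.det_mul, h0, zero_mul, Matrix.det_one] at this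
              exact zero_ne_one this
            have hcc := TensorWreathU.components h3 H.two (h := Function.update (1 : τ → Matrix (Fin m) (Fin m) F) l
              (1 + nu J s)) (σ := 1) (f := f) (by rw [permM_one, mul_one]; exact hd1) hff
              (by rw [permM_one, mul_one, pureM_mul, pureM_mul, hwz]) l
            rw [Equiv.Perm.one_apply, Function.update_self, hfl] at hcc
            exact hcc
          rw [mul_assoc, ← mul_assoc (f l), ← hc, mul_assoc, hff, mul_one, root_sq_one hJ H.two]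
        · rw [Function.update_of_ne hlo, Pi.one_apply, one_mul, hff]
      rw [hfy, Pi.mul_apply]
      by_cases hlp : l = p
      · subst hlp
        rw [Function.update_self, hfzp]
        have hc : (1 + nu J a) * (1 + nu J e) = (1 + nu J e) * (1 + nu J a) := by
          simp only [mul_add, add_mul, one_mul, mul_one, nu_mul, hea, hae, zero_smul]
          abel
        rw [mul_assoc, ← mul_assoc (1 + nu J a), hc, mul_assoc, root_sq_one hJ H.two, mul_one, root_sq_one hJ H.two]
      · rw [Function.update_of_ne hlp, Pi.one_apply, mul_one, hz2']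
    have e3 := congrFun (pure_inj h3 H.two he2 hy2' (by rw [← hEw, ← hzyv, hzy])) p
    rw [hfy, hfe, Pi.mul_apply, Function.update_self, hfzp, mul_add, mul_one, add_mul, one_mul, nu_mul, hea, zero_smul,
      add_zero, add_assoc] at e3
    have hcases : f (σ.symm p) = 1 + nu J e ∨ f (σ.symm p) = 1 := by
      simp only [hf]
      split_ifs <;> first | exact Or.inl rfl | exact Or.inr rfl
    simp only at e3
    rcases hcases with h4 | h4 <;> rw [h4] at e3
    · rw [mul_add, mul_one, add_mul, hinv, add_right_inj, nu, Matrix.mul_vecMulVec, Matrix.vecMulVec_mul] at e3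
      exact nu_add_ne_vmv hJ he ha _ _ e3.symm
    · rw [mul_one, hinv, left_eq_add] at e3
      exact nu_add_ne_zero hJ he ha e3

/-- The group is monomial, for at least two factors. -/
theorem mono_all {g : GL (Ix τ m) F} (hg : g ∈ M) : Mono g.1 := by
  obtain ⟨i, -⟩ := exists_pair_ne τ
  haveI := H.neZero
  obtain ⟨x, hxM, hx⟩ := H.exists_root i (u := Pi.single 0 1) (by simp)
  exact H.mono_of_root_image hS hlow hg hxM ⟨i, _, hx⟩
    (H.all_root hS hlow ((rootConj_of_root ⟨i, _, hx⟩ hxM).conj hg))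

end Hyp

/-- The group is monomial. -/
theorem allMono : ∀ (n : ℕ) (τ : Type) [Fintype τ] [DecidableEq τ] [Nonempty τ], Fintype.card τ = n →
    ∀ M : Subgroup (GL (Ix τ m) F), Hyp J M → SmallAll J M → ∀ g ∈ M, Mono g.1 := by
  intro n
  induction n using Nat.strong_induction_on with
  | _ n IH =>
  intro τ _ _ _ hn M H hS g hg
  by_cases h1 : Fintype.card τ = 1
  · exact mono_of_card_one h1 _
  haveI : Nontrivial τ := Fintype.one_lt_card_iff_nontrivial.1 (by
    have := Fintype.card_pos (α := τ); omega)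
  refine H.mono_all hS (fun σ _ _ _ hσ M' H' hS' => IH _ (hn ▸ hσ) σ rfl M' H' hS') hg

end CfsgLib.Classical.TensorWreathT
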