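import Cfsg.Agent.Lib.Classical.TensorWreathS.Levels
import Cfsg.Agent.Lib.Classical.TensorWreathS.Pure
import Cfsg.Agent.Lib.Classical.TensorWreath.Top
import Cfsg.Agent.Lib.Classical.TensorWreath.ThreeBase
import Cfsg.Agent.Lib.Classical.TensorSymp.Level

set_option autoImplicit false
set_option linter.unusedSectionVars false

/-!
Characteristic two: algebras of matrices on a tensor power which are invariant under the isometries of the factors.
-/

namespace CfsgLib.Classical.TensorWreathT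

open Matrix CfsgLib.Classical.TensorWreath
open CfsgLib.Classical.TensorSymp (adj Sp AForm tv)
open CfsgLib.Classical.TensorWreathS (JJ nu det_JJ span_pure mem_of_nu tv_eq pureM_mul_inv)
open scoped MatrixGroups Kronecker

variable {F : Type*} [Field F] [Finite F] {τ : Type} [Fintype τ] [DecidableEq τ] {m : ℕ}
variable {J : Matrix (Fin m) (Fin m) F}

/-- An algebra which is invariant under the isometries of the factors. -/
structure Alg (J : Matrix (Fin m) (Fin m) F) (P : Matrix (Ix τ m) (Ix τ m) F → Prop) : Prop where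
  one : P 1
  smul : ∀ (c : F) (E), P E → P (c • E)
  add : ∀ E E', P E → P E' → P (E + E')
  mul : ∀ E E', P E → P E' → P (E * E')
  conj : ∀ g : τ → Matrix (Fin m) (Fin m) F, (∀ j, Sp J (g j)) → ∀ E, P E →
    P (pureM g * E * pureM fun j => (g j)⁻¹)

theorem neg_two (h2 : (2 : F) = 0) {R : Type*} [AddCommGroup R] [Module F R] (x : R) : -x = x := by
  rw [neg_eq_iff_add_eq_zero, ← two_smul F, h2, zero_smul]

theorem sub_two (h2 : (2 : F) = 0) {R : Type*} [AddCommGroup R] [Module F R] (x y : R) : x - y = x + y := by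
  rw [sub_eq_add_neg, neg_two h2]

theorem neg_one_two (h2 : (2 : F) = 0) : (-1 : F) = 1 := neg_two h2 1

theorem eq_of_add (h2 : (2 : F) = 0) {R : Type*} [AddCommGroup R] [Module F R] {x y : R} (h : x + y = 0) :
    x = y := by rwa [← sub_two h2, sub_eq_zero] at h

theorem tv_inv (h2 : (2 : F) = 0) (hJ : AForm J) (u : Fin m → F) (c : F) : (tv J u c)⁻¹ = tv J u c :=
  Matrix.inv_eq_right_inv (by simpa [neg_two h2] using hJ.tv_mul_neg u c)

theorem nonempty_fin (hm : 6 ≤ m) : Nonempty (Fin m) := ⟨⟨0, by omega⟩⟩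

/-- The form of a tensor power is alternating. -/
theorem aform_JJ (hJ : AForm J) (h2 : (2 : F) = 0) [NeZero m] [Nonempty τ] : AForm (JJ J τ) := by
  have hs : (JJ J τ)ᵀ = JJ J τ := by
    rw [TensorWreathS.transpose_JJ hJ, neg_one_two h2, one_pow, one_smul]
  refine ⟨by rw [hs, neg_two h2], fun x => ?_, det_JJ hJ⟩
  obtain ⟨L, hL⟩ : ∃ L, L = JJ J τ := ⟨_, rfl⟩
  rw [← hL] at hs ⊢
  have hd : ∀ p, L p p = 0 := fun p => by
    obtain ⟨j⟩ := ‹Nonempty τ›
    rw [hL]
    refine (pureM_apply _ _ _).trans ?_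
    refine Finset.prod_eq_zero (Finset.mem_univ j) ?_
    simpa [Matrix.mulVec_single, single_dotProduct] using hJ.alt (Pi.single (p j) 1)
  have hsum : x ⬝ᵥ L *ᵥ x = ∑ z : Ix τ m × Ix τ m, x z.1 * L z.1 z.2 * x z.2 := by
    simp only [dotProduct, Matrix.mulVec, Fintype.sum_prod_type, Finset.mul_sum, mul_assoc]
  rw [hsum]
  refine Finset.sum_ninvolution Prod.swap (fun z => ?_) (fun z hz e => hz ?_) (fun z => Finset.mem_univ _)
    fun z => Prod.swap_swap z
  · have hzz : L z.2 z.1 = L z.1 z.2 := by conv_lhs => rw [← hs, Matrix.transpose_apply]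
    show x z.1 * L z.1 z.2 * x z.2 + x z.2 * L z.2 z.1 * x z.1 = 0
    rw [hzz]
    linear_combination x z.1 * L z.1 z.2 * x z.2 * h2
  · have : z.2 = z.1 := congrArg Prod.fst e
    rw [this, hd, mul_zero, zero_mul]

theorem card_le_rank {ι : Type} [Fintype ι] [DecidableEq ι] {X Y : Matrix ι ι F} {n : F} (hn : n ≠ 0)
    (h : X * Y = n • 1) : Fintype.card ι ≤ X.rank := by
  refine le_rank_of_sandwich (L := 1) (R := n⁻¹ • Y) ?_
  rw [one_mul, mul_smul_comm, h, smul_smul, inv_mul_cancel₀ hn, one_smul]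

theorem card_le_rank_smul {ι : Type} [Fintype ι] [DecidableEq ι] {a : F} (ha : a ≠ 0) :
    Fintype.card ι ≤ (a • (1 : Matrix ι ι F)).rank := card_le_rank ha (Y := 1) (by rw [mul_one])

theorem embM_inv_fun (l : τ) (T : Matrix (Fin m) (Fin m) F) :
    (fun j => (Function.update (1 : τ → Matrix (Fin m) (Fin m) F) l T j)⁻¹) = Function.update (1 : τ → Matrix (Fin m) (Fin m) F) l T⁻¹ := by
  funext j
  by_cases h : j = l
  · subst h; simp
  · simp [Function.update_of_ne h]

theorem sp_update (hJ : AForm J) {T : Matrix (Fin m) (Fin m) F} (hT : Sp J T) (l j : τ) :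
    Sp J (Function.update (1 : τ → Matrix (Fin m) (Fin m) F) l T j) := by
  by_cases h : j = l
  · subst h; rwa [Function.update_self]
  · rw [Function.update_of_ne h]; exact hJ.sp_one

namespace Alg

variable {P : Matrix (Ix τ m) (Ix τ m) F → Prop} (hP : Alg J P)
include hP

theorem zero : P 0 := by simpa using hP.smul 0 1 hP.one

theorem sum {κ : Type*} (s : Finset κ) (f : κ → Matrix (Ix τ m) (Ix τ m) F) (h : ∀ x ∈ s, P (f x)) :
    P (∑ x ∈ s, f x) := Finset.sum_induction f P hP.add hP.zero h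

theorem conj_embM (hJ : AForm J) (l : τ) {T : Matrix (Fin m) (Fin m) F} (hT : Sp J T) {E : Matrix (Ix τ m) (Ix τ m) F}
    (hE : P E) : P (embM l T * E * embM l T⁻¹) := by
  have := hP.conj (Function.update 1 l T) (fun j => sp_update hJ hT l j) E hE
  rwa [embM_inv_fun] at this

/-- Conjugating by a transvection. -/
theorem diff (hJ : AForm J) (h2 : (2 : F) = 0) (l : τ) (u : Fin m → F) {E : Matrix (Ix τ m) (Ix τ m) F} (hE : P E) :
    P (embM l (nu J u) * E + E * embM l (nu J u) + embM l (nu J u) * E * embM l (nu J u)) := by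
  have h := hP.add _ _ (hP.conj_embM hJ l (hJ.sp_tv u 1) hE) hE
  rw [tv_inv h2 hJ, tv_eq, one_smul, embM_add, embM_one] at h
  convert h using 1
  simp only [mul_add, add_mul, one_mul, mul_one]
  linear_combination (norm := module) -(h2 • (E : Matrix (Ix τ m) (Ix τ m) F))

end Alg

/-- An invariant algebra of elements which are quadratic for the adjoint consists of scalars. -/
theorem scalar_of_quad (hJ : AForm J) (h2 : (2 : F) = 0) (hm : 6 ≤ m) {P : Matrix (Ix τ m) (Ix τ m) F → Prop}
    (hP : Alg J P)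
    (hq : ∀ E, P E → ∃ a n : F, adj (JJ J τ) E = E + a • 1 ∧ E * adj (JJ J τ) E = n • 1)
    {E : Matrix (Ix τ m) (Ix τ m) F} (hE : P E) : ∃ c : F, E = c • 1 := by
  haveI : NeZero m := ⟨by omega⟩
  refine exists_eq_smul_one_of_cen fun l => ?_
  haveI : Nonempty τ := ⟨l⟩
  have hA := aform_JJ (τ := τ) hJ h2
  obtain ⟨R, hR⟩ : ∃ R, R = Fintype.card (Ix (Rest l) m) := ⟨_, rfl⟩
  have hcard : Fintype.card (Ix τ m) = m * R := hR ▸ card_ix l
  have hR0 : 0 < R := hR ▸ Fintype.card_pos
  have radj : ∀ X : Matrix (Ix τ m) (Ix τ m) F, (adj (JJ J τ) X).rank = X.rank := fun X => by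
    rw [adj, Matrix.rank_mul_eq_left_of_isUnit_det _ _ hA.isUnit_det, Matrix.rank_mul_eq_right_of_isUnit_det _ _
      (Matrix.isUnit_nonsing_inv_det _ hA.isUnit_det), Matrix.rank_transpose]
  have small : ∀ X, P X → X.rank ≤ 2 * R → adj (JJ J τ) X = X ∧ X * X = 0 := by
    intro X hX hr
    obtain ⟨a, n, ha, hn⟩ := hq X hX
    have ha0 : a = 0 := by
      by_contra hne
      have h1 := card_le_rank_smul (ι := Ix τ m) hne
      rw [show a • (1 : Matrix (Ix τ m) (Ix τ m) F) = adj (JJ J τ) X + X by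
        rw [ha]; linear_combination (norm := module) -(h2 • X)] at h1
      have h3 := h1.trans (rank_add_le' _ _)
      rw [radj, hcard] at h3
      nlinarith
    rw [ha0, zero_smul, add_zero] at ha
    rw [ha] at hn
    refine ⟨ha, ?_⟩
    by_cases hn0 : n = 0
    · rw [hn, hn0, zero_smul]
    · have := card_le_rank hn0 hn
      rw [hcard] at this
      nlinarith
  have comm : ∀ X Y, P X → P Y → X.rank ≤ 2 * R → Y.rank ≤ 2 * R → X * Y = Y * X := by
    intro X Y hX hY rX rY
    obtain ⟨aX, sX⟩ := small X hX rX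
    obtain ⟨aY, sY⟩ := small Y hY rY
    obtain ⟨a, n, ha, hn⟩ := hq _ (hP.add _ _ hX hY)
    rw [hA.adj_add, aX, aY] at hn
    have hn0 : n = 0 := by
      by_contra hne
      have h1 := (card_le_rank hne hn).trans (rank_add_le' _ _)
      rw [hcard] at h1
      nlinarith
    rw [hn0, zero_smul, mul_add, add_mul, add_mul, sX, sY, zero_add, add_zero] at hn
    exact (eq_of_add h2 hn).symm
  have zero : ∀ (N : ℕ) (X : Matrix (Ix τ m) (Ix τ m) F), P X → X.rank ≤ 2 * R → X.rank = N → X = 0 := by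
    intro N
    induction N using Nat.strong_induction_on with
    | _ N IH =>
    intro X hX rX hN
    refine span_pure hJ fun g hg => ?_
    obtain ⟨G, hG⟩ : ∃ G, G = pureM g := ⟨_, rfl⟩
    obtain ⟨G', hG'⟩ : ∃ G', G' = pureM fun j => (g j)⁻¹ := ⟨_, rfl⟩
    have hGG : G' * G = 1 := by rw [hG, hG']; exact (pureM_mul_inv hJ hg).2
    obtain ⟨Y, hY⟩ : ∃ Y, Y = G * X * G' := ⟨_, rfl⟩
    have hYP : P Y := hY ▸ hG ▸ hG' ▸ hP.conj g hg X hX
    have rY : Y.rank ≤ X.rank := hY ▸ (Matrix.rank_mul_le_left _ _).trans (Matrix.rank_mul_le_right _ _)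
    have hXY : X * Y = 0 := by
      by_contra hne
      have r1 := Matrix.rank_mul_le_left X Y
      by_cases hlt : (X * Y).rank < X.rank
      · exact hne (IH _ (hN ▸ hlt) _ (hP.mul _ _ hX hYP) (r1.trans rX) rfl)
      have hc := comm X Y hX hYP rX (rY.trans rX)
      have l1 : LinearMap.range (X * Y).mulVecLin ≤ LinearMap.range X.mulVecLin := by
        rw [Matrix.mulVecLin_mul]; exact LinearMap.range_comp_le_range _ _
      have l2 : LinearMap.range (X * Y).mulVecLin ≤ LinearMap.range Y.mulVecLin := by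
        rw [hc, Matrix.mulVecLin_mul]; exact LinearMap.range_comp_le_range _ _
      have e1 := Submodule.eq_of_le_of_finrank_le l1 (not_lt.1 hlt)
      have e2 := Submodule.eq_of_le_of_finrank_le l2 (rY.trans (not_lt.1 hlt))
      refine hne (Matrix.ext_iff_mulVec.2 fun v => ?_)
      have hv : Y *ᵥ v ∈ LinearMap.range X.mulVecLin := by
        rw [← e1, e2]; exact LinearMap.mem_range_self Y.mulVecLin v
      obtain ⟨w, hw⟩ := hv
      rw [← Matrix.mulVec_mulVec, ← hw, Matrix.mulVecLin_apply, Matrix.mulVec_mulVec, (small X hX rX).2,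
        Matrix.zero_mulVec, Matrix.zero_mulVec]
    have := congrArg (· * G) hXY
    rw [hY, zero_mul, mul_assoc, mul_assoc, hGG, mul_one, ← mul_assoc] at this
    rwa [← hG]
  obtain ⟨S, hS⟩ : ∃ S : Submodule F (Matrix (Fin m) (Fin m) F), ∀ b, b ∈ S ↔ embM l b * E = E * embM l b :=
    ⟨{ carrier := {b | embM l b * E = E * embM l b}
       add_mem' := fun {a b} (ha : _ = _) (hb : _ = _) => show _ = _ by rw [embM_add, add_mul, mul_add, ha, hb]
       zero_mem' := show _ = _ by rw [embM_zero, zero_mul, mul_zero]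
       smul_mem' := fun c a (ha : _ = _) => show _ = _ by rw [embM_smul, smul_mul_assoc, mul_smul_comm, ha] },
      fun _ => Iff.rfl⟩
  intro b
  refine (hS b).1 (mem_of_nu hJ S (fun u v => (hS _).2 ?_) b)
  have key : ∀ u, embM l (nu J u) * E = E * embM l (nu J u) := fun u => by
    obtain ⟨N, hN⟩ : ∃ N, N = embM l (nu J u) := ⟨_, rfl⟩
    have hNr : N.rank ≤ R := hN ▸ hR ▸ rank_embM_vecMulVec_le l u _
    have hr : (N * E + E * N + N * E * N).rank ≤ 2 * R := by
      rw [show N * E + E * N + N * E * N = N * (E + E * N) + E * N by rw [mul_add, ← mul_assoc]; abel, two_mul]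
      exact (rank_add_le' _ _).trans
        (add_le_add ((Matrix.rank_mul_le_left _ _).trans hNr) ((Matrix.rank_mul_le_right _ _).trans hNr))
    have h0 := zero _ _ (hN ▸ hP.diff hJ h2 l u hE) (hN ▸ hr) rfl
    rw [← hN]
    have hNN : N * N = 0 := by rw [hN, embM_mul, TensorWreathS.nu_sq hJ, embM_zero]
    have hNEN : N * E * N = 0 := by
      have h1 := congrArg (N * ·) h0
      simp only [mul_add, ← mul_assoc, hNN, zero_mul, zero_add, mul_zero, add_zero] at h1
      exact h1
    rw [hNEN, add_zero] at h0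
    exact eq_of_add h2 h0
  rw [← embM_mul, mul_assoc, key, ← mul_assoc, key, mul_assoc]

end CfsgLib.Classical.TensorWreathT
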