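import Cfsg.Agent.Lib.Classical.TensorWreathT.Alg
import Cfsg.Agent.Lib.Classical.TensorSymp.Stab

set_option autoImplicit false
set_option linter.unusedSectionVars false

/-!
Characteristic two: an invariant algebra which is not the scalars contains all the matrices of one factor.
-/

namespace CfsgLib.Classical.TensorWreathT

open Matrix CfsgLib.Classical.TensorWreath
open CfsgLib.Classical.TensorSymp (adj Sp AForm tv kr_mul_apply kc_mul_apply eq_of_mul_kc_all)
open CfsgLib.Classical.TensorMax (kc kr kr_mul_kc kron_mul_kc kr_smul kc_smul kc_add kr_add kr_zero kr_sub kc_cancel)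
open CfsgLib.Classical.TensorWreathS (JJ nu span_pure mem_of_nu nu_smul nu_mul pureM_mul_inv)
open CfsgLib.Classical.TensorWreathU (back back_kron back_mul back_inj)
open scoped MatrixGroups Kronecker

variable {F : Type*} [Field F] [Finite F] {τ : Type} [Fintype τ] [DecidableEq τ] {m : ℕ}
variable {J : Matrix (Fin m) (Fin m) F}

section split

variable {α β : Type} [Fintype α] [DecidableEq α] [Fintype β] [DecidableEq β] {JB : Matrix β β F}

/-- A block with all contractions orthogonal to `w` zero lies over `w`. -/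
theorem split_kc (hB : AForm JB) {w : β → F} {θ : β → F} (hθ : θ ⬝ᵥ w = 1) {X : Matrix (α × β) α F}
    (h : ∀ a : β → F, (JB *ᵥ w) ⬝ᵥ a = 0 → kr α (JB *ᵥ a) * X = 0) : X = kc α w * (kr α θ * X) := by
  ext ⟨i, k⟩ j
  obtain ⟨φ, hφ⟩ : ∃ φ : β → F, φ = Pi.single k 1 - w k • θ := ⟨_, rfl⟩
  have hJ : JB *ᵥ (JB⁻¹ *ᵥ φ) = φ := by
    rw [Matrix.mulVec_mulVec, Matrix.mul_nonsing_inv JB hB.isUnit_det, Matrix.one_mulVec]
  have h0 := h (JB⁻¹ *ᵥ φ) (by
    rw [hB.swap, hJ, hφ, sub_dotProduct, smul_dotProduct, hθ, single_dotProduct, one_mul, smul_eq_mul, mul_one,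
      sub_self, neg_zero])
  rw [hJ, hφ, kr_sub, kr_smul, Matrix.sub_mul, Matrix.smul_mul, sub_eq_zero] at h0
  have h1 := congrFun₂ h0 i j
  rw [kr_mul_apply, single_dotProduct, one_mul, Matrix.smul_apply, smul_eq_mul] at h1
  rw [h1, kc_mul_apply]

theorem exists_indep_orth (hB : AForm JB) (h3 : 3 ≤ Fintype.card β) (u : β → F) :
    ∃ v : β → F, (∀ c : F, v ≠ c • u) ∧ (JB *ᵥ u) ⬝ᵥ v = 0 := by
  by_cases hu : u = 0
  · obtain ⟨v, hv, hv'⟩ := TensorMax.exists_orth (fun _ : Fin 1 => JB *ᵥ u) (by simp; omega)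
    exact ⟨v, fun c => by rw [hu, smul_zero]; exact hv, hv' 0⟩
  obtain ⟨θ, hθ⟩ := TensorMax.exists_dual_one hu
  obtain ⟨v, hv, hv'⟩ := TensorMax.exists_orth ![θ, JB *ᵥ u] (by simp; omega)
  refine ⟨v, fun c e => hv ?_, hv' 1⟩
  have := hv' 0
  rw [Matrix.cons_val_zero, e, dotProduct_smul, hθ, smul_eq_mul, mul_one] at this
  rw [e, this, zero_smul]

/-- A matrix stabilising all the lines is a product with a scalar. -/
theorem eq_kron_of_lines [Nonempty β] {Z : Matrix (α × β) (α × β) F}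
    (h : ∀ u : β → F, u ≠ 0 → ∃ A : Matrix α α F, Z * kc α u = kc α u * A) :
    ∃ A : Matrix α α F, Z = A ⊗ₖ (1 : Matrix β β F) := by
  choose A hA using h
  obtain ⟨u₀, hu₀⟩ : ∃ u₀ : β → F, u₀ ≠ 0 := ⟨fun _ => 1, fun e => one_ne_zero (congrFun e (Classical.arbitrary β))⟩
  have indep : ∀ (a b : β → F) (ha : a ≠ 0) (hb : b ≠ 0), (∀ c : F, b ≠ c • a) → A a ha = A b hb := by
    intro a b ha hb hab
    have hs : a + b ≠ 0 := fun e => hab (-1) (by rw [neg_one_smul]; exact eq_neg_of_add_eq_zero_right e)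
    have h := hA (a + b) hs
    rw [kc_add, Matrix.mul_add, hA a ha, hA b hb, Matrix.add_mul] at h
    obtain ⟨θ, t1, t2⟩ := TensorMax.exists_dual_pair ha hab 1 0
    obtain ⟨η, s1, s2⟩ := TensorMax.exists_dual_pair ha hab 0 1
    have h1 := congrArg (kr α θ * ·) h
    have h3 := congrArg (kr α η * ·) h
    simp only [Matrix.mul_add, ← Matrix.mul_assoc, kr_mul_kc, t1, t2, s1, s2, one_smul, zero_smul, Matrix.zero_mul,
      Matrix.one_mul, add_zero, zero_add] at h1 h3
    rw [h1, h3]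
  refine ⟨A u₀ hu₀, eq_of_mul_kc_all fun a => ?_⟩
  rw [kron_mul_kc, Matrix.one_mulVec]
  by_cases ha : a = 0
  · rw [ha, show (0 : β → F) = (0 : F) • u₀ by rw [zero_smul], kc_smul, zero_smul, Matrix.mul_zero, Matrix.zero_mul]
  by_cases hau : ∀ c : F, a ≠ c • u₀
  · rw [indep u₀ a hu₀ ha hau, hA a ha]
  push Not at hau
  obtain ⟨c, rfl⟩ := hau
  rw [kc_smul, Matrix.mul_smul, hA u₀ hu₀, Matrix.smul_mul]

end split

/-- The unit is a combination of roots. -/
theorem one_mem_of_nu (hJ : AForm J) (h2 : (2 : F) = 0) (W : Submodule F (Matrix (Fin m) (Fin m) F))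
    (hW : ∀ u, nu J u ∈ W) : (1 : Matrix (Fin m) (Fin m) F) ∈ W := by
  obtain ⟨S, hS⟩ : ∃ S : Submodule F (Matrix (Fin m) (Fin m) F), ∀ X, X ∈ S ↔ X + adj J X ∈ W :=
    ⟨{ carrier := {X | X + adj J X ∈ W}
       add_mem' := fun {X Y} (hX : _ ∈ W) (hY : _ ∈ W) => show _ ∈ W by
         rw [hJ.adj_add, add_add_add_comm]; exact W.add_mem hX hY
       zero_mem' := show _ ∈ W by
         rw [adj, Matrix.transpose_zero, Matrix.mul_zero, Matrix.zero_mul, add_zero]; exact W.zero_mem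
       smul_mem' := fun c X (hX : _ ∈ W) => show _ ∈ W by rw [hJ.adj_smul, ← smul_add]; exact W.smul_mem c hX },
      fun _ => Iff.rfl⟩
  have hall : ∀ X, X ∈ S := mem_of_nu hJ S fun a b => by
    rw [nu_mul]
    refine S.smul_mem _ ((hS _).2 ?_)
    rw [hJ.adj_vecMulVec, neg_two h2]
    have e : Matrix.vecMulVec a (J *ᵥ b) + Matrix.vecMulVec b (J *ᵥ a) = nu J (a + b) - nu J a - nu J b := by
      simp only [nu, Matrix.mulVec_add, Matrix.add_vecMulVec, Matrix.vecMulVec_add]; abel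
    rw [e]
    exact W.sub_mem (W.sub_mem (hW _) (hW _)) (hW _)
  obtain ⟨U, hU⟩ : ∃ U : Matrix (Fin m) (Fin m) F, U = Matrix.of fun p q => if p < q then J p q else 0 := ⟨_, rfl⟩
  have hUU : U + Uᵀ = J := by
    ext p q
    have hpq : J q p = J p q := by
      have := congrFun₂ hJ.skew p q
      rwa [Matrix.transpose_apply, Matrix.neg_apply, neg_two h2] at this
    rw [hU, Matrix.add_apply, Matrix.transpose_apply, Matrix.of_apply, Matrix.of_apply]
    rcases lt_trichotomy p q with h | h | h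
    · rw [if_pos h, if_neg (not_lt.2 h.le), add_zero]
    · subst h
      rw [if_neg (lt_irrefl p), add_zero]
      simpa [Matrix.mulVec_single, single_dotProduct] using (hJ.alt (Pi.single p 1)).symm
    · rw [if_neg (not_lt.2 h.le), if_pos h, zero_add, hpq]
  have e1 : J * (J⁻¹ * U) = U := by rw [← Matrix.mul_assoc, Matrix.mul_nonsing_inv J hJ.isUnit_det, Matrix.one_mul]
  have e2 : adj J (J⁻¹ * U) = J⁻¹ * Uᵀ := by
    have h1 : (J⁻¹)ᵀ = J⁻¹ := by rw [Matrix.transpose_nonsing_inv, hJ.skew, neg_two h2]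
    rw [adj, Matrix.transpose_mul, h1, Matrix.mul_assoc, Matrix.mul_assoc Uᵀ,
      Matrix.nonsing_inv_mul J hJ.isUnit_det, Matrix.mul_one]
  have := (hS _).1 (hall (J⁻¹ * U))
  rwa [e2, ← Matrix.mul_add, hUU, Matrix.nonsing_inv_mul J hJ.isUnit_det] at this

theorem rk_conj (hJ : AForm J) {T : Matrix (Fin m) (Fin m) F} (hT : Sp J T) (a b : Fin m → F) :
    T * Matrix.vecMulVec a (J *ᵥ b) * T⁻¹ = Matrix.vecMulVec (T *ᵥ a) (J *ᵥ (T *ᵥ b)) := by
  rw [Matrix.mul_vecMulVec, Matrix.vecMulVec_mul, ← hJ.vecMul_image hT b, Matrix.vecMul_vecMul, (hJ.sp_inv hT).1,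
    Matrix.vecMul_one]

/-- The block at two vectors. -/
theorem emb_co (l : τ) (v u : Fin m → F) (Z : Matrix (Ix (Rest l) m × Fin m) (Ix (Rest l) m × Fin m) F) :
    embM l (nu J v) * back l Z * embM l (nu J u) =
      ins l (kr (Ix (Rest l) m) (J *ᵥ v) * Z * kc (Ix (Rest l) m) u) (Matrix.vecMulVec v (J *ᵥ u)) := by
  rw [embM_eq_ins, embM_eq_ins, ← back_kron, ← back_kron, ← back_kron, ← back_mul, ← back_mul]
  refine congrArg (back l) ?_
  rw [nu, nu, ← TensorMax.kc_mul_kr, ← TensorMax.kc_mul_kr, ← TensorMax.kc_mul_mul_kr]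
  simp only [Matrix.mul_assoc]

theorem update_extend_sp (hJ : AForm J) (l : τ) {g : Rest l → Matrix (Fin m) (Fin m) F} (hg : ∀ j, Sp J (g j))
    (j : τ) : Sp J (Function.update (extend l g) l 1 j) := by
  by_cases h : j = l
  · subst h; rw [Function.update_self]; exact hJ.sp_one
  · rw [Function.update_of_ne h, extend, dif_neg h]; exact hg _

theorem update_extend_inv (l : τ) (g : Rest l → Matrix (Fin m) (Fin m) F) :
    (fun j => (Function.update (extend l g) l 1 j)⁻¹) = Function.update (extend l fun j => (g j)⁻¹) l 1 := by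
  funext j
  by_cases h : j = l
  · subst h; simp
  · simp [Function.update_of_ne h, extend, h]

namespace Alg

variable {P : Matrix (Ix τ m) (Ix τ m) F → Prop} (hP : Alg J P)
include hP

theorem conj_rest (hJ : AForm J) (l : τ) {g : Rest l → Matrix (Fin m) (Fin m) F} (hg : ∀ j, Sp J (g j))
    {C : Matrix (Ix (Rest l) m) (Ix (Rest l) m) F} {b : Matrix (Fin m) (Fin m) F} (h : P (ins l C b)) :
    P (ins l (pureM g * C * pureM fun j => (g j)⁻¹) b) := by
  have := hP.conj _ (update_extend_sp hJ l hg) _ h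
  rwa [update_extend_inv, ← ins_pureM, ← ins_pureM, ins_mul, ins_mul, Matrix.one_mul, Matrix.mul_one] at this

/-- The elements which are central at `l`. -/
theorem rest (hJ : AForm J) (l : τ) : Alg J fun C : Matrix (Ix (Rest l) m) (Ix (Rest l) m) F => P (ins l C 1) where
  one := by rw [ins_one_one]; exact hP.one
  smul c C h := by rw [ins_smul_left]; exact hP.smul c _ h
  add C C' h h' := by rw [ins_add_left]; exact hP.add _ _ h h'
  mul C C' h h' := by
    have := hP.mul _ _ h h'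
    rwa [ins_mul, Matrix.one_mul] at this
  conj g hg C h := hP.conj_rest hJ l hg h

/-- All the matrices of a factor from its roots. -/
theorem full_of_nu (hJ : AForm J) (l : τ) (h : ∀ u, P (embM l (nu J u))) (b : Matrix (Fin m) (Fin m) F) :
    P (embM l b) := by
  obtain ⟨S, hS⟩ : ∃ S : Submodule F (Matrix (Fin m) (Fin m) F), ∀ b, b ∈ S ↔ P (embM l b) :=
    ⟨{ carrier := {b | P (embM l b)}
       add_mem' := fun {a b} (ha : P _) (hb : P _) => show P _ by rw [embM_add]; exact hP.add _ _ ha hb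
       zero_mem' := show P _ by rw [embM_zero]; exact hP.zero
       smul_mem' := fun c a (ha : P _) => show P _ by rw [embM_smul]; exact hP.smul c _ ha }, fun _ => Iff.rfl⟩
  exact (hS b).1 (mem_of_nu hJ S (fun u v => (hS _).2 (by rw [← embM_mul]; exact hP.mul _ _ (h u) (h v))) b)

/-- The unit in place of a root. -/
theorem one_of_nu (hJ : AForm J) (h2 : (2 : F) = 0) (l : τ) {D : Matrix (Ix (Rest l) m) (Ix (Rest l) m) F}
    {u₀ : Fin m → F} (hu₀ : u₀ ≠ 0) (h : P (ins l D (nu J u₀))) : P (ins l D 1) ∧ ∀ u, P (ins l D (nu J u)) := by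
  have hall : ∀ u, P (ins l D (nu J u)) := fun u => by
    by_cases hu : u = 0
    · rw [hu, show nu J (0 : Fin m → F) = (0 : F) • nu J u₀ by rw [zero_smul, nu, Matrix.zero_vecMulVec],
        ins_smul_right, zero_smul]
      exact hP.zero
    obtain ⟨T, hT, hTu⟩ := TensorWreathS.move hJ hu₀ hu
    have := hP.conj_embM hJ l hT h
    rw [embM_eq_ins, embM_eq_ins, ins_mul, ins_mul, Matrix.one_mul, Matrix.mul_one, nu, rk_conj hJ hT, hTu] at this
    exact this
  obtain ⟨W, hW⟩ : ∃ W : Submodule F (Matrix (Fin m) (Fin m) F), ∀ b, b ∈ W ↔ P (ins l D b) :=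
    ⟨{ carrier := {b | P (ins l D b)}
       add_mem' := fun {a b} (ha : P _) (hb : P _) => show P _ by rw [ins_add_right]; exact hP.add _ _ ha hb
       zero_mem' := show P _ by
         rw [show (0 : Matrix (Fin m) (Fin m) F) = (0 : F) • nu J u₀ by rw [zero_smul], ins_smul_right, zero_smul]
         exact hP.zero
       smul_mem' := fun c a (ha : P _) => show P _ by rw [ins_smul_right]; exact hP.smul c _ ha }, fun _ => Iff.rfl⟩
  exact ⟨(hW 1).1 (one_mem_of_nu hJ h2 W fun u => (hW _).2 (hall u)), hall⟩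

end Alg

/-- A non-scalar element gives all the matrices of one factor. -/
theorem exists_full (hJ : AForm J) (h2 : (2 : F) = 0) (hm : 6 ≤ m) : ∀ (n : ℕ) (τ : Type) [Fintype τ] [DecidableEq τ],
    Fintype.card τ = n → ∀ P : Matrix (Ix τ m) (Ix τ m) F → Prop, Alg J P → ∀ E, P E → (∀ c : F, E ≠ c • 1) →
      ∃ l, ∀ b, P (embM l b) := by
  intro n
  induction n using Nat.strong_induction_on with
  | _ n IH =>
  intro τ _ _ hn P hP E hE hns
  haveI : NeZero m := ⟨by omega⟩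
  have hcard : 3 ≤ Fintype.card (Fin m) := by rw [Fintype.card_fin]; omega
  obtain ⟨l, hl⟩ : ∃ l, ¬ Cen l E := by
    by_contra hc
    push Not at hc
    obtain ⟨c, hc'⟩ := exists_eq_smul_one_of_cen hc
    exact hns c hc'
  obtain ⟨Z, hZ⟩ : ∃ Z, back l Z = E :=
    ⟨E.submatrix (spl l).symm (spl l).symm, by ext x y; simp [TensorWreathU.back]⟩
  obtain ⟨co, hco⟩ : ∃ co : (Fin m → F) → (Fin m → F) → Matrix (Ix (Rest l) m) (Ix (Rest l) m) F,
      ∀ v u, co v u = kr (Ix (Rest l) m) (J *ᵥ v) * Z * kc (Ix (Rest l) m) u := ⟨_, fun _ _ => rfl⟩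
  have finish : ∀ D, P (ins l D 1) → D ≠ 0 → (∀ u, P (ins l D (nu J u))) → ∃ l', ∀ b, P (embM l' b) := by
    intro D hD hD0 hDn
    by_cases hsc : ∃ c : F, D = c • 1
    · obtain ⟨c, rfl⟩ := hsc
      have hc : c ≠ 0 := fun e => hD0 (by rw [e, zero_smul])
      refine ⟨l, hP.full_of_nu hJ l fun u => ?_⟩
      have := hP.smul c⁻¹ _ (hDn u)
      rwa [← ins_smul_left, smul_smul, inv_mul_cancel₀ hc, one_smul, ← embM_eq_ins] at this
    push Not at hsc
    obtain ⟨l', hl'⟩ := IH (Fintype.card (Rest l)) (by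
      rw [← hn]; exact Fintype.card_subtype_lt (x := l) (fun h => h rfl)) (Rest l) rfl _ (hP.rest hJ l) D hD hsc
    refine ⟨l'.1, fun b => ?_⟩
    have := hl' b
    rwa [ins_embM] at this
  -- a pair with a block
  obtain ⟨u, v, hu, hv, huv, hne⟩ : ∃ u v : Fin m → F, u ≠ 0 ∧ (∀ c : F, v ≠ c • u) ∧ (J *ᵥ u) ⬝ᵥ v = 0 ∧
      ¬ (co v u = 0 ∧ co u v = 0) := by
    by_contra hc
    push Not at hc
    refine hl ?_
    have hperp : ∀ u a : Fin m → F, u ≠ 0 → (J *ᵥ u) ⬝ᵥ a = 0 → co a u = 0 := by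
      intro u a hu ha
      by_cases hau : ∀ c : F, a ≠ c • u
      · exact (hc u a hu hau ha).1
      push Not at hau
      obtain ⟨c, rfl⟩ := hau
      obtain ⟨w, hw, hw'⟩ := exists_indep_orth hJ hcard u
      have h1 := (hc u w hu hw hw').1
      have h3 := (hc u (w + u) hu (fun d e => hw (d - 1) (by rw [sub_smul, one_smul, ← e, add_sub_cancel_right]))
        (by rw [dotProduct_add, hw', hJ.self, add_zero])).1
      rw [hco] at h1 h3 ⊢
      rw [Matrix.mulVec_add, kr_add, Matrix.add_mul, Matrix.add_mul, h1, zero_add] at h3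
      rw [Matrix.mulVec_smul, kr_smul, Matrix.smul_mul, Matrix.smul_mul, h3, smul_zero]
    haveI := nonempty_fin hm
    obtain ⟨A, hA⟩ := eq_kron_of_lines (α := Ix (Rest l) m) (β := Fin m) (Z := Z) fun u hu => by
      obtain ⟨θ, hθ⟩ := TensorMax.exists_dual_one hu
      exact ⟨_, split_kc hJ hθ fun a ha => by rw [← Matrix.mul_assoc, ← hco]; exact hperp u a hu ha⟩
    rw [← hZ, hA, back_kron]
    exact cen_ins_one _ _
  obtain ⟨C1, hC1⟩ : ∃ C1, C1 = co v u := ⟨_, rfl⟩
  obtain ⟨C2, hC2⟩ : ∃ C2, C2 = co u v := ⟨_, rfl⟩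
  rw [← hC1, ← hC2] at hne
  have hvu : (J *ᵥ v) ⬝ᵥ u = 0 := by rw [hJ.swap, huv, neg_zero]
  -- all the pairs
  have hG : ∀ a b : Fin m → F, b ≠ 0 → (∀ c : F, a ≠ c • b) → (J *ᵥ b) ⬝ᵥ a = 0 →
      P (ins l C1 (Matrix.vecMulVec a (J *ᵥ b)) + ins l C2 (Matrix.vecMulVec b (J *ᵥ a))) := by
    intro a b hb hab hba
    have h := hP.diff hJ h2 l v (hP.diff hJ h2 l u hE)
    obtain ⟨Nu, hNu⟩ : ∃ N, N = embM l (nu J u) := ⟨_, rfl⟩
    obtain ⟨Nv, hNv⟩ : ∃ N, N = embM l (nu J v) := ⟨_, rfl⟩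
    rw [← hNu, ← hNv] at h
    have z1 : Nv * Nu = 0 := by rw [hNu, hNv, embM_mul, nu_mul, hvu, zero_smul, embM_zero]
    have z2 : Nu * Nv = 0 := by rw [hNu, hNv, embM_mul, nu_mul, huv, zero_smul, embM_zero]
    have e : Nv * (Nu * E + E * Nu + Nu * E * Nu) + (Nu * E + E * Nu + Nu * E * Nu) * Nv +
        Nv * (Nu * E + E * Nu + Nu * E * Nu) * Nv = Nv * E * Nu + Nu * E * Nv := by
      have z1' : ∀ X, Nv * (Nu * X) = 0 := fun X => by rw [← mul_assoc, z1, zero_mul]
      simp only [mul_add, add_mul, mul_assoc, z1', z2, mul_zero, zero_add, add_zero]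
    rw [e, hNu, hNv, ← hZ, emb_co, emb_co, ← hco, ← hco, ← hC1, ← hC2] at h
    obtain ⟨T, -, hT, hTu, hTv⟩ := hJ.exists_move (fun _ => True) trivial (fun _ _ _ _ => trivial)
      (fun _ _ => trivial) hu hv huv hb hab hba
    have h' := hP.conj_embM hJ l hT h
    rw [mul_add, add_mul, embM_eq_ins, embM_eq_ins, ins_mul, ins_mul, ins_mul, ins_mul, Matrix.one_mul, Matrix.mul_one,
      Matrix.one_mul, Matrix.mul_one, rk_conj hJ hT, rk_conj hJ hT, hTu, hTv] at h'
    exact h'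
  by_cases hsum : C1 + C2 ≠ 0
  · have h1 := hG (v + u) u hu (fun d e => hv (d - 1) (by rw [sub_smul, one_smul, ← e, add_sub_cancel_right]))
      (by rw [dotProduct_add, huv, hJ.self, add_zero])
    have h3 := hP.add _ _ h1 (hG v u hu hv huv)
    have e : ins l C1 (Matrix.vecMulVec (v + u) (J *ᵥ u)) + ins l C2 (Matrix.vecMulVec u (J *ᵥ (v + u))) +
        (ins l C1 (Matrix.vecMulVec v (J *ᵥ u)) + ins l C2 (Matrix.vecMulVec u (J *ᵥ v))) =
        ins l (C1 + C2) (nu J u) := by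
      rw [Matrix.add_vecMulVec, Matrix.mulVec_add, Matrix.vecMulVec_add, ins_add_right, ins_add_right, ins_add_left, nu]
      linear_combination (norm := module) h2 • (ins l C1 (Matrix.vecMulVec v (J *ᵥ u)) +
        ins l C2 (Matrix.vecMulVec u (J *ᵥ v)))
    rw [e] at h3
    obtain ⟨hD, hDn⟩ := hP.one_of_nu hJ h2 l hu h3
    exact finish _ hD hsum hDn
  push Not at hsum
  have h12 : C2 = C1 := (eq_of_add h2 hsum).symm
  rw [h12] at hne hG
  have hC0 : C1 ≠ 0 := fun e => hne ⟨e, e⟩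
  obtain ⟨g, hg, hgne⟩ : ∃ g : Rest l → Matrix (Fin m) (Fin m) F, (∀ j, Sp J (g j)) ∧ C1 * pureM g * C1 ≠ 0 := by
    by_contra hc
    push Not at hc
    exact hC0 (span_pure hJ hc)
  obtain ⟨C', hC'⟩ : ∃ C', C' = pureM g * C1 * pureM fun j => (g j)⁻¹ := ⟨_, rfl⟩
  have hCC : C1 * C' ≠ 0 := fun e => hgne (by
    have := congrArg (· * pureM g) e
    rwa [hC', zero_mul, mul_assoc, mul_assoc, (pureM_mul_inv hJ hg).2, mul_one, ← mul_assoc] at this)
  obtain ⟨z, z1, z2⟩ := hJ.exists_perp_ne hu hv 0 1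
  have hzu : ∀ c : F, z ≠ c • u := fun c e => by
    rw [e, dotProduct_smul, hvu, smul_zero] at z2
    exact zero_ne_one z2
  have hGz := hP.conj_rest hJ l hg (b := Matrix.vecMulVec z (J *ᵥ u) + Matrix.vecMulVec u (J *ᵥ z)) (C := C1)
    (by rw [ins_add_right]; exact hG z u hu hzu z1)
  rw [← hC'] at hGz
  have hprod := hP.mul _ _ (hG v u hu hv huv) hGz
  have ezu : (J *ᵥ u) ⬝ᵥ z = 0 := z1
  rw [← ins_add_right, ins_mul, Matrix.add_mul, Matrix.mul_add, Matrix.mul_add] at hprod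
  simp only [Matrix.vecMulVec_mul_vecMulVec, ezu, hJ.self, z2, hvu, zero_smul, one_smul, Matrix.vecMulVec_zero,
    add_zero, zero_add] at hprod
  obtain ⟨hD, hDn⟩ := hP.one_of_nu hJ h2 l hu hprod
  exact finish _ hD hCC hDn

end CfsgLib.Classical.TensorWreathT
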