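import Cfsg.Agent.Lib.Classical.TensorWreathT.PairTens
import Cfsg.Agent.Lib.Classical.TensorWreathS.Spread
import Cfsg.Agent.Lib.Classical.TensorWreath.Descend

set_option autoImplicit false
set_option linter.unusedSectionVars false

/-!
Characteristic two: the setting, its parts on fewer factors, the levels, and the centralisers of roots.
-/

namespace CfsgLib.Classical.TensorWreathT

open Matrix CfsgLib.Classical.TensorWreath
open CfsgLib.Classical.TensorSymp (adj Sp AForm tv Np Zm D)
open CfsgLib.Classical.TensorMax (kc kr)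
open CfsgLib.Classical.TensorWreathS (JJ nu SmallAll tv_eq inM_two inM_of_two sp_two sp_embM sp_pureM pureM_mul_inv)
open CfsgLib.Classical.TensorWreathU (two back two_val back_two back_inj back_kron back_mul back_one back_add)
open scoped MatrixGroups Kronecker

variable {F : Type*} [Field F] [Finite F] {τ : Type} [Fintype τ] [DecidableEq τ] {m : ℕ}

/-- The setting. -/
structure Hyp (J : Matrix (Fin m) (Fin m) F) (M : Subgroup (GL (Ix τ m) F)) : Prop where
  two : (2 : F) = 0
  hJ : AForm J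
  six : 6 ≤ m
  le : ∀ g ∈ M, Sp (JJ J τ) g.1
  emb : ∀ (i : τ) (T : Matrix (Fin m) (Fin m) F), Sp J T → InM M (embM i T)

variable {J : Matrix (Fin m) (Fin m) F} {M : Subgroup (GL (Ix τ m) F)}

theorem back_sub (i : τ) (Y Y' : Matrix (Ix (Rest i) m × Fin m) (Ix (Rest i) m × Fin m) F) :
    back i (Y - Y') = back i Y - back i Y' := rfl

theorem back_zm (i : τ) (w : Fin m → F) (C : Matrix (Ix (Rest i) m) (Ix (Rest i) m) F) :
    back i (Zm J w C) = ins i C (nu J w) := by
  rw [Zm, TensorMax.kc_mul_mul_kr, back_kron, nu]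

theorem back_np {i : τ} (JA : Matrix (Ix (Rest i) m) (Ix (Rest i) m) F) (w ψ : Fin m → F)
    (E : Matrix (Ix (Rest i) m) (Ix (Rest i) m) F) : back i (Np JA J w ψ E) =
      ins i E (Matrix.vecMulVec w (J *ᵥ ψ)) + ins i (adj JA E) (Matrix.vecMulVec ψ (J *ᵥ w)) := by
  rw [Np, TensorMax.kc_mul_mul_kr, TensorMax.kc_mul_mul_kr, back_add, back_kron, back_kron]

namespace Hyp

variable (H : Hyp J M)
include H

theorem neZero : NeZero m := ⟨by have := H.six; omega⟩

theorem nonempty_rest [Nontrivial τ] (i : τ) : Nonempty (Rest i) := by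
  obtain ⟨j, hj⟩ := exists_ne i
  exact ⟨⟨j, hj⟩⟩

theorem inM_pure {g : τ → Matrix (Fin m) (Fin m) F} (hg : ∀ j, Sp J (g j)) : InM M (pureM g) := by
  suffices h : ∀ s : Finset τ, InM M (pureM (pick s g)) by
    convert h Finset.univ using 2
    funext j; simp [pick]
  intro s
  induction s using Finset.induction with
  | empty => rw [pick_empty]; exact inM_one
  | insert a s ha IH => rw [pick_insert ha]; exact IH.mul (H.emb a _ (hg a))

/-- The view as a product of the other factors with one. -/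
theorem pair [Nontrivial τ] (i : τ) :
    Pair.Hyp (JJ J (Rest i)) J (M.map (TensorWreathU.two i).toMonoidHom) := by
  haveI := H.neZero
  haveI := H.nonempty_rest i
  exact {
    two := H.two
    sA := aform_JJ H.hJ H.two
    sB := H.hJ
    ne := ⟨fun _ => 0⟩
    five := by rw [Fintype.card_fin]; have := H.six; omega
    le := by
      rintro _ ⟨g, hg, rfl⟩
      exact (sp_two i).2 (H.le g hg)
    right := fun T hT => inM_two i (by rw [back_kron, embM_eq_ins]) (H.emb i T hT) }

/-- The levels at a factor form an invariant algebra. -/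
theorem d_alg [Nontrivial τ] (i : τ) :
    Alg J (D (JJ J (Rest i)) J (M.map (TensorWreathU.two i).toMonoidHom)) where
  one := by simpa using (H.pair i).d_one 1
  smul c _ h := (H.pair i).d_smul h c
  add _ _ h h' := (H.pair i).d_add h h'
  mul _ _ h h' := (H.pair i).d_mul h h'
  conj g hg E h := by
    haveI := H.neZero
    have := (H.pair i).d_conj h (sp_pureM hg) (inM_two i
      (X := pureM (Function.update (extend i g) i 1)) (by rw [back_kron, ins_pureM])
      (H.inM_pure (update_extend_sp H.hJ i hg)))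
    rwa [Matrix.inv_eq_right_inv (pureM_mul_inv H.hJ hg).1] at this

theorem small_zm (hS : SmallAll J M) (i : τ) {w : Fin m → F} (hw : w ≠ 0)
    {C : Matrix (Ix (Rest i) m) (Ix (Rest i) m) F}
    (h : TensorMax.InM (M.map (TensorWreathU.two i).toMonoidHom) (1 + Zm J w C)) : ∃ c : F, C = c • 1 := by
  haveI := H.neZero
  have h' := inM_of_two i h
  rw [back_add, back_one, back_zm, ← TensorWreathS.embM_nu_mul] at h'
  obtain ⟨c, hc⟩ := hS i w hw _ (cen_ins_one i C) h'
  refine ⟨c, ins_one_injective i ?_⟩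
  show ins i C 1 = ins i (c • 1) 1
  rw [hc, ins_smul_left, ins_one_one]

/-- The levels are scalars. -/
theorem levels_scalar [Nontrivial τ] (hS : SmallAll J M) (i : τ) (E : Matrix (Ix (Rest i) m) (Ix (Rest i) m) F)
    (hE : D (JJ J (Rest i)) J (M.map (TensorWreathU.two i).toMonoidHom) E) : ∃ c : F, E = c • 1 :=
  scalar_of_quad H.hJ H.two H.six (H.d_alg i)
    (fun _ h => (H.pair i).d_quad (fun _ hw _ hC => H.small_zm hS i hw hC) h) hE

/-- The part on the other factors. -/
theorem rest [NeZero m] (i : τ) : Hyp J (M.comap (lift i)) where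
  two := H.two
  hJ := H.hJ
  six := H.six
  le a ha := by
    have h : Sp (JJ J τ) (lift i a).1 := H.le _ ha
    rw [← sp_two i, show (TensorWreathU.two i (lift i a)).1 = a.1 ⊗ₖ (1 : Matrix (Fin m) (Fin m) F) from
      back_inj i (by rw [back_two, back_kron, lift_val])] at h
    unfold Sp at h ⊢
    rw [← Matrix.kroneckerMap_transpose, ← Matrix.mul_kronecker_mul, ← Matrix.mul_kronecker_mul,
      Matrix.transpose_one, Matrix.one_mul, Matrix.mul_one] at h
    exact TensorOrth.kron_right_cancel (fun e => H.hJ.det_ne (by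
      rw [e, Matrix.det_zero])) h
  emb j T hT := by
    obtain ⟨g, hg, hg'⟩ := H.emb j.1 T hT
    obtain ⟨a, ha⟩ : ∃ a : GL (Ix (Rest i) m) F, a.1 = embM j T :=
      ⟨Units.mkOfMulEqOne (embM j T) (embM j T⁻¹) (by rw [embM_mul, (H.hJ.sp_inv hT).1, embM_one]), rfl⟩
    refine ⟨a, ?_, ha⟩
    show lift i a ∈ M
    rwa [show lift i a = g from Units.ext (by rw [lift_val, ha, ins_embM, hg'])]

theorem small_rest [NeZero m] (hS : SmallAll J M) (i : τ) : SmallAll J (M.comap (lift i)) := by
  intro j u hu Y hY hYM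
  obtain ⟨a, ha, ha'⟩ := hYM
  have hY' : Cen j.1 (ins i Y 1) := fun b => by
    rw [← ins_embM, ins_mul, ins_mul, hY]
  obtain ⟨c, hc⟩ := hS j.1 u hu _ hY' ⟨lift i a, ha, by
    rw [lift_val, ha', ins_add_left, ins_one_one, ← ins_embM, ins_mul, one_mul]⟩
  exact ⟨c, ins_one_injective i (show ins i Y 1 = ins i (c • 1) 1 by rw [hc, ins_smul_left, ins_one_one])⟩

end Hyp

/-- The statement for fewer factors. -/
def Low (J : Matrix (Fin m) (Fin m) F) (τ : Type) [Fintype τ] [DecidableEq τ] : Prop :=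
  ∀ (σ : Type) [Fintype σ] [DecidableEq σ] [Nonempty σ], Fintype.card σ < Fintype.card τ → ∀ M' : Subgroup (GL (Ix σ m) F),
    Hyp J M' → SmallAll J M' → ∀ g ∈ M', Mono g.1

/-- An element commuting with a root is monomial. -/
theorem Hyp.mono_of_commute (H : Hyp J M) [Nontrivial τ] (hS : SmallAll J M) (hlow : Low J τ) {g : GL (Ix τ m) F}
    (hg : g ∈ M) {i : τ} {u : Fin m → F} (hu : u ≠ 0) (h : g.1 * embM i (nu J u) = embM i (nu J u) * g.1) :
    Mono g.1 := by
  haveI := H.neZero
  obtain ⟨G, hG⟩ : ∃ G, G = TensorWreathU.two i g := ⟨_, rfl⟩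
  have hGM : G ∈ M.map (TensorWreathU.two i).toMonoidHom := ⟨g, hg, hG.symm⟩
  have hP := H.pair i
  obtain ⟨X, hX⟩ : ∃ X : Matrix (Ix (Rest i) m × Fin m) (Ix (Rest i) m × Fin m) F,
      X = kc (Ix (Rest i) m) u * kr (Ix (Rest i) m) (J *ᵥ u) := ⟨_, rfl⟩
  have hXb : back i X = embM i (nu J u) := by rw [hX, TensorMax.kc_mul_kr, back_kron, embM_eq_ins, nu]
  have hc : G.1 * X = X * G.1 := back_inj i (by rw [back_mul, back_mul, hXb, hG, back_two, h])
  obtain ⟨z, hz⟩ := H.hJ.exists_form_ne hu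
  obtain ⟨A, hA⟩ : ∃ A, A = kr (Ix (Rest i) m) (J *ᵥ u) * G.1 * kc (Ix (Rest i) m) z := ⟨_, rfl⟩
  have hXz : X * kc (Ix (Rest i) m) z = kc (Ix (Rest i) m) u := by
    rw [hX, Matrix.mul_assoc, TensorMax.kr_mul_kc, hz, one_smul, Matrix.mul_one]
  have hGu : G.1 * kc (Ix (Rest i) m) u = kc (Ix (Rest i) m) u * A := by
    rw [← hXz, ← Matrix.mul_assoc, hc, hXz, hA, hX]
    simp only [Matrix.mul_assoc]
  have hAA : A * adj (JJ J (Rest i)) A = 1 := by
    have hk := hP.adjoint hGM (y := u) (y' := 0) (w := u) (E := A) (by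
      rw [hGu, show (0 : Fin m → F) = (0 : F) • u by rw [zero_smul], TensorMax.kc_smul, zero_smul, zero_add])
    rw [Matrix.mulVec_zero, TensorMax.kr_zero, zero_add] at hk
    have e : kc (Ix (Rest i) m) u * (A * adj (JJ J (Rest i)) A) * kr (Ix (Rest i) m) (J *ᵥ u) = X := by
      calc _ = G.1 * kc (Ix (Rest i) m) u * (kr (Ix (Rest i) m) (J *ᵥ u) * (G⁻¹).1) := by
            rw [hk, hGu]; simp only [Matrix.mul_assoc]
        _ = G.1 * X * (G⁻¹).1 := by rw [hX]; simp only [Matrix.mul_assoc]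
        _ = X := by rw [hc, Matrix.mul_assoc, G.mul_inv, Matrix.mul_one]
    rw [hX, Matrix.mul_assoc] at e
    refine TensorMax.kr_cancel (H.hJ.mulVec_ne hu) ?_
    rw [Matrix.one_mul]
    exact TensorMax.kc_cancel hu e
  obtain ⟨T, hT⟩ := hP.tens_of_stab (H.levels_scalar hS i) hGM hu hGu hAA
  have hTJ : Sp J T := by
    have hg2 := hP.le G hGM
    rw [hT, ← Matrix.kroneckerMap_transpose, ← Matrix.mul_kronecker_mul, ← Matrix.mul_kronecker_mul] at hg2
    have hA1 : Aᵀ * JJ J (Rest i) * A = JJ J (Rest i) := by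
      have h1 := congrArg (JJ J (Rest i) * ·) (mul_eq_one_comm.1 hAA)
      simp only [adj, ← Matrix.mul_assoc, Matrix.mul_nonsing_inv _ hP.sA.isUnit_det, Matrix.one_mul,
        Matrix.mul_one] at h1
      exact h1
    rw [hA1] at hg2
    haveI := hP.ne
    exact TensorOrth.kron_left_cancel (fun e => hP.sA.det_ne (by rw [e, Matrix.det_zero])) hg2
  obtain ⟨t, ht, ht'⟩ := H.emb i _ (H.hJ.sp_inv hTJ).2
  have hval : (g * t).1 = ins i A 1 := by
    rw [Units.val_mul, ← back_two i g, ← hG, hT, back_kron, ht', embM_eq_ins, ins_mul, Matrix.mul_one,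
      (H.hJ.sp_inv hTJ).1]
  have hdet : A.det ≠ 0 := fun e => by
    have := congrArg Matrix.det hAA
    rw [Matrix.det_mul, e, zero_mul, Matrix.det_one] at this
    exact zero_ne_one this
  obtain ⟨a, ha⟩ : ∃ a : GL (Ix (Rest i) m) F, a.1 = A :=
    ⟨Matrix.GeneralLinearGroup.mkOfDetNeZero A hdet, rfl⟩
  have haM : a ∈ M.comap (lift i) := by
    show lift i a ∈ M
    rw [show lift i a = g * t from Units.ext (by rw [lift_val, ha, hval])]
    exact M.mul_mem hg ht
  haveI := H.nonempty_rest i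
  have hm := hlow (Rest i) (Fintype.card_subtype_lt (x := i) fun h => h rfl) _ (H.rest i) (H.small_rest hS i) a haM
  rw [ha] at hm
  rw [← back_two i g, ← hG, hT, back_kron, ← Matrix.mul_one A, ← Matrix.one_mul T, ← ins_mul, ← embM_eq_ins]
  exact (mono_ins i hm).mul (mono_pure _)

end CfsgLib.Classical.TensorWreathT
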