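import Cfsg.Agent.Lib.Classical.TensorWreathT.AlgFull

set_option autoImplicit false
set_option linter.unusedSectionVars false

/-!
Characteristic two: groups of isometries of a product of two alternating forms which contain the isometries of the
second factor; the levels of the elements fixing a subspace `F^α ⊗ w`.
-/

namespace CfsgLib.Classical.TensorWreathT.Pair

open Matrix CfsgLib.Classical.TensorMax
open CfsgLib.Classical.TensorSymp (adj Sp AForm tv Np Zm D kr_mul_apply kc_mul_apply eq_of_mul_kc_all)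
open CfsgLib.Classical.TensorWreathT (neg_two sub_two eq_of_add split_kc)
open scoped MatrixGroups Kronecker

variable {F : Type*} [Field F] {α β : Type} [Fintype α] [DecidableEq α] [Fintype β] [DecidableEq β]

/-- The setting. -/
structure Hyp (JA : Matrix α α F) (JB : Matrix β β F) (M : Subgroup (GL (α × β) F)) : Prop where
  two : (2 : F) = 0
  sA : AForm JA
  sB : AForm JB
  ne : Nonempty α
  five : 5 ≤ Fintype.card β
  le : ∀ g ∈ M, g.1ᵀ * (JA ⊗ₖ JB) * g.1 = JA ⊗ₖ JB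
  right : ∀ T : Matrix β β F, Sp JB T → InM M ((1 : Matrix α α F) ⊗ₖ T)

namespace Hyp

variable [Finite F] {JA : Matrix α α F} {JB : Matrix β β F} {M : Subgroup (GL (α × β) F)} (H : Hyp JA JB M)
include H

theorem inM_tvB (u : β → F) (c : F) : InM M ((1 : Matrix α α F) ⊗ₖ tv JB u c) := H.right _ (H.sB.sp_tv u c)

theorem kc_transpose_mul (y : β → F) :
    (kc α y : Matrix (α × β) α F)ᵀ * (JA ⊗ₖ JB) = -(JA * kr α (JB *ᵥ y)) := by
  have e : (kc α y : Matrix (α × β) α F)ᵀ = kr α y := by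
    ext i ⟨j, k⟩
    simp [kc_apply, kr_apply, eq_comm]
  rw [e, kr_mul_kron, H.sB.vecMul_eq, ← Matrix.mul_neg]
  congr 1
  ext i ⟨j, k⟩
  simp only [kr_apply, Matrix.neg_apply, Pi.neg_apply]
  split <;> simp

/-- The adjoint rule. -/
theorem adjoint {g : GL (α × β) F} (hg : g ∈ M) {y y' w : β → F} {E : Matrix α α F}
    (h : g.1 * kc α y = kc α y' + kc α w * E) :
    kr α (JB *ᵥ y) * (g⁻¹).1 = kr α (JB *ᵥ y') + adj JA E * kr α (JB *ᵥ w) := by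
  have hJ : (JA ⊗ₖ JB) * (g⁻¹).1 = g.1ᵀ * (JA ⊗ₖ JB) := by
    conv_lhs => rw [← (H.le g hg)]
    rw [Matrix.mul_assoc _ g.1, g.mul_inv, Matrix.mul_one]
  have e : -(JA * (kr α (JB *ᵥ y) * (g⁻¹).1)) =
      -(JA * kr α (JB *ᵥ y')) - Eᵀ * (JA * kr α (JB *ᵥ w)) := by
    rw [← Matrix.mul_assoc, ← Matrix.neg_mul, ← H.kc_transpose_mul, Matrix.mul_assoc, hJ, ← Matrix.mul_assoc,
      ← Matrix.transpose_mul, h, Matrix.transpose_add, Matrix.add_mul, H.kc_transpose_mul, Matrix.transpose_mul,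
      Matrix.mul_assoc, H.kc_transpose_mul, Matrix.mul_neg, sub_eq_add_neg]
  have e2 := congrArg (fun X => -(JA⁻¹ * X)) e
  simp only [Matrix.mul_neg, Matrix.mul_sub, neg_neg, neg_sub, Matrix.nonsing_inv_mul_cancel_left JA _ H.sA.isUnit_det,
    ← Matrix.mul_assoc, Matrix.nonsing_inv_mul JA H.sA.isUnit_det, Matrix.one_mul] at e2
  rw [e2, adj]
  abel

theorem adjoint_fix {g : GL (α × β) F} (hg : g ∈ M) {y : β → F} (h : g.1 * kc α y = kc α y) :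
    kr α (JB *ᵥ y) * (g⁻¹).1 = kr α (JB *ᵥ y) := by
  rw [H.adjoint hg (y' := y) (w := y) (E := 0) (by rw [h, Matrix.mul_zero, add_zero])]
  simp [adj]

theorem nonempty_right : Nonempty β := Fintype.card_pos_iff.1 (by have := H.five; omega)

theorem np_mul_kc (w ψ y : β → F) (E : Matrix α α F) : Np JA JB w ψ E * kc α y =
    ((JB *ᵥ ψ) ⬝ᵥ y) • (kc α w * E) + ((JB *ᵥ w) ⬝ᵥ y) • (kc α ψ * adj JA E) := by
  simp only [Np, Matrix.add_mul, Matrix.mul_assoc, kr_mul_kc, Matrix.mul_smul, Matrix.mul_one]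

theorem np_sq {w ψ : β → F} (ho : (JB *ᵥ w) ⬝ᵥ ψ = 0) (E E' : Matrix α α F) :
    Np JA JB w ψ E * Np JA JB w ψ E' = 0 := by
  have hoψ : (JB *ᵥ ψ) ⬝ᵥ w = 0 := by rw [H.sB.swap, ho, neg_zero]
  conv_lhs => rw [Np.eq_def JA JB w ψ E']
  rw [Matrix.mul_add, ← Matrix.mul_assoc, ← Matrix.mul_assoc, ← Matrix.mul_assoc, ← Matrix.mul_assoc,
    H.np_mul_kc, H.np_mul_kc, hoψ, ho, H.sB.self, H.sB.self]
  simp

theorem np_add (w ψ : β → F) (E E' : Matrix α α F) :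
    Np JA JB w ψ (E + E') = Np JA JB w ψ E + Np JA JB w ψ E' := by
  simp only [Np, H.sA.adj_add, Matrix.mul_add, Matrix.add_mul]; abel

theorem np_smul (c : F) (w ψ : β → F) (E : Matrix α α F) :
    Np JA JB w ψ (c • E) = c • Np JA JB w ψ E := by
  simp only [Np, H.sA.adj_smul, Matrix.mul_smul, Matrix.smul_mul, smul_add]

theorem np_conj {S : Matrix α α F} {T : Matrix β β F} (hS : Sp JA S) (hT : Sp JB T) (w ψ : β → F)
    (E : Matrix α α F) : (S ⊗ₖ T) * Np JA JB w ψ E * (S⁻¹ ⊗ₖ T⁻¹) =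
      Np JA JB (T *ᵥ w) (T *ᵥ ψ) (S * E * S⁻¹) := by
  have hphi : ∀ v : β → F, (JB *ᵥ v) ᵥ* T⁻¹ = JB *ᵥ (T *ᵥ v) := fun v => by
    rw [← H.sB.vecMul_image hT v, Matrix.vecMul_vecMul, (H.sB.sp_inv hT).1, Matrix.vecMul_one]
  have hadj : adj JA (S * E * S⁻¹) = S * adj JA E * S⁻¹ := by
    have e1 := (H.sA.sp_inv hS).1
    rw [H.sA.adj_mul, H.sA.adj_mul, H.sA.adj_of_sp hS e1, H.sA.adj_of_sp (H.sA.sp_inv hS).2
      (mul_eq_one_comm.1 e1), ← Matrix.mul_assoc]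
  simp only [Np, Matrix.mul_add, Matrix.add_mul, ← Matrix.mul_assoc, kron_mul_kc, hadj]
  simp only [Matrix.mul_assoc, kr_mul_kron, hphi]

theorem inM_inv {X Y : Matrix (α × β) (α × β) F} (h : InM M X) (e : X * Y = 1) : InM M Y := by
  obtain ⟨g, hg, rfl⟩ := h
  exact ⟨g⁻¹, M.inv_mem hg, Units.inv_eq_of_mul_eq_one_right e⟩

/-- Products of transvections of the second factor. -/
theorem move {w ψ w' ψ' : β → F} (hw : w ≠ 0) (hψ : ∀ c : F, ψ ≠ c • w) (ho : (JB *ᵥ w) ⬝ᵥ ψ = 0)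
    (hw' : w' ≠ 0) (hψ' : ∀ c : F, ψ' ≠ c • w') (ho' : (JB *ᵥ w') ⬝ᵥ ψ' = 0) :
    ∃ T : Matrix β β F, InM M ((1 : Matrix α α F) ⊗ₖ T) ∧ Sp JB T ∧ T *ᵥ w = w' ∧ T *ᵥ ψ = ψ' := by
  refine H.sB.exists_move (fun T => InM M ((1 : Matrix α α F) ⊗ₖ T)) ⟨1, M.one_mem, by simp⟩ (fun S T hS hT => ?_)
    H.inM_tvB hw hψ ho hw' hψ' ho'
  show InM M ((1 : Matrix α α F) ⊗ₖ (S * T))
  have := hS.mul hT
  rwa [← Matrix.mul_kronecker_mul, Matrix.one_mul] at this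

theorem inM_conj {S : Matrix α α F} {T : Matrix β β F} (hS : Sp JA S) (hT : Sp JB T) (hn : InM M (S ⊗ₖ T))
    {w ψ : β → F} {E : Matrix α α F} (h : InM M (1 + Np JA JB w ψ E)) :
    InM M (1 + Np JA JB (T *ᵥ w) (T *ᵥ ψ) (S * E * S⁻¹)) := by
  have e1 : (S ⊗ₖ T) * (S⁻¹ ⊗ₖ T⁻¹) = 1 := by
    rw [← Matrix.mul_kronecker_mul, (H.sA.sp_inv hS).1, (H.sB.sp_inv hT).1, Matrix.one_kronecker_one]
  have := (hn.mul h).mul (H.inM_inv hn e1)
  rwa [Matrix.mul_add, Matrix.mul_one, Matrix.add_mul, e1, H.np_conj hS hT] at this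

/-- The unipotent element of the second factor of a pair. -/
theorem inM_pair {w ψ : β → F} (ho : (JB *ᵥ w) ⬝ᵥ ψ = 0) (c : F) :
    InM M (1 + c • Np JA JB w ψ (1 : Matrix α α F)) := by
  have hoψ : (JB *ᵥ ψ) ⬝ᵥ w = 0 := by rw [H.sB.swap, ho, neg_zero]
  have key : tv JB (w + ψ) c * tv JB w (-c) * tv JB ψ (-c) =
      1 + c • (Matrix.vecMulVec w (JB *ᵥ ψ) + Matrix.vecMulVec ψ (JB *ᵥ w)) := by
    have e : ∀ d u, tv JB u d = 1 + d • Matrix.vecMulVec u (JB *ᵥ u) := fun d u => by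
      rw [tv, Matrix.smul_vecMulVec]
    have z : ∀ a b : β → F, (JB *ᵥ a) ⬝ᵥ b = 0 →
        Matrix.vecMulVec a (JB *ᵥ a) * Matrix.vecMulVec b (JB *ᵥ b) = 0 := fun a b h => by
      rw [Matrix.vecMulVec_mul_vecMulVec, h]; simp
    have z1 := z (w + ψ) w (by rw [Matrix.mulVec_add, add_dotProduct, H.sB.self, hoψ, add_zero])
    have z2 := z (w + ψ) ψ (by rw [Matrix.mulVec_add, add_dotProduct, ho, H.sB.self, add_zero])
    have z3 := z w ψ ho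
    have k : ∀ (d : F) (X Y Z : Matrix β β F), X * Y = 0 → X * Z = 0 → Y * Z = 0 →
        (1 + c • X) * (1 + d • Y) * (1 + d • Z) = 1 + (c • X + d • Y + d • Z) := by
      intro d X Y Z h1 h2 h3
      simp only [Matrix.mul_add, Matrix.add_mul, Matrix.mul_one, Matrix.one_mul, Matrix.smul_mul, Matrix.mul_smul,
        h1, h2, h3, smul_zero, add_zero, zero_add, Matrix.zero_mul]
      abel
    rw [e, e, e, k _ _ _ _ z1 z2 z3, neg_smul, neg_smul, ← sub_eq_add_neg, ← sub_eq_add_neg, ← smul_sub, ← smul_sub]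
    congr 2
    simp only [Matrix.mulVec_add, Matrix.add_vecMulVec, Matrix.vecMulVec_add]
    abel
  have h := ((H.inM_tvB (w + ψ) c).mul (H.inM_tvB w (-c))).mul (H.inM_tvB ψ (-c))
  rw [← Matrix.mul_kronecker_mul, ← Matrix.mul_kronecker_mul, key, Matrix.one_mul, Matrix.one_mul,
    Matrix.kronecker_add, Matrix.one_kronecker_one, Matrix.kronecker_smul, Matrix.kronecker_add, ← kc_mul_kr,
    ← kc_mul_kr] at h
  rwa [Np, H.sA.adj_one, Matrix.mul_one, Matrix.mul_one]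

theorem d_add {E E' : Matrix α α F} (h : D JA JB M E) (h' : D JA JB M E') : D JA JB M (E + E') := by
  intro w ψ hw hψ ho
  have := (h w ψ hw hψ ho).mul (h' w ψ hw hψ ho)
  rwa [Matrix.mul_add, Matrix.mul_one, Matrix.add_mul, Matrix.one_mul, H.np_sq ho, add_zero, add_assoc,
    ← H.np_add] at this

theorem exists_orth_indep {κ : Type} [Fintype κ] (f : κ → β → F) {w : β → F}
    (hκ : Fintype.card κ + 2 ≤ Fintype.card β) :
    ∃ r : β → F, (∀ c : F, r ≠ c • w) ∧ ∀ i, f i ⬝ᵥ r = 0 := by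
  by_cases hw : w = 0
  · obtain ⟨r, hr, hr'⟩ := exists_orth f (by omega)
    exact ⟨r, fun c => by rw [hw, smul_zero]; exact hr, hr'⟩
  obtain ⟨θ, hθ⟩ := exists_dual_one hw
  obtain ⟨r, hr, hr'⟩ := exists_orth (fun i : Option κ => i.elim θ f) (by simp; omega)
  refine ⟨r, fun c e => hr ?_, fun i => hr' (some i)⟩
  have := hr' none
  rw [Option.elim, e, dotProduct_smul, hθ, smul_eq_mul, mul_one] at this
  rw [e, this, zero_smul]

/-- The element with level on `ψ`. -/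
theorem level_sq {h : GL (α × β) F} (hh : h ∈ M) {w ψ : β → F}
    (ho : (JB *ᵥ w) ⬝ᵥ ψ = 0) {E : Matrix α α F}
    (hlev : h.1 * kc α ψ = kc α ψ + kc α w * E) (c : F) :
    InM M (1 + c • (Np JA JB w ψ E + Zm JB w (E * adj JA E))) := by
  obtain ⟨n, hn, hn'⟩ := H.inM_tvB ψ c
  obtain ⟨n2, hn2, hn2'⟩ := H.inM_tvB ψ (-c)
  refine ⟨h * n * h⁻¹ * n2, M.mul_mem (M.mul_mem (M.mul_mem hh hn) (M.inv_mem hh)) hn2, ?_⟩
  have hadj := H.adjoint hh hlev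
  have hkk : ∀ d : F, (1 : Matrix α α F) ⊗ₖ tv JB ψ d = 1 + d • (kc α ψ * kr α (JB *ᵥ ψ)) := fun d => by
    rw [tv, Matrix.kronecker_add, Matrix.one_kronecker_one, Matrix.smul_vecMulVec, Matrix.kronecker_smul,
      ← kc_mul_kr]
  rw [hkk] at hn' hn2'
  set Ψ : Matrix (α × β) (α × β) F := kc α ψ * kr α (JB *ᵥ ψ) with hΨ
  have e1 : h.1 * Ψ * (h⁻¹).1 = Ψ + (Np JA JB w ψ E + Zm JB w (E * adj JA E)) := by
    rw [hΨ, ← Matrix.mul_assoc, hlev, Matrix.mul_assoc, hadj]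
    simp only [Np, Zm, Matrix.add_mul, Matrix.mul_add, Matrix.mul_assoc]
    abel
  have e2 : (Ψ + (Np JA JB w ψ E + Zm JB w (E * adj JA E))) * Ψ = 0 := by
    rw [hΨ, ← Matrix.mul_assoc, Matrix.add_mul (kc α ψ * kr α (JB *ᵥ ψ)), Matrix.add_mul (Np JA JB w ψ E),
      Matrix.mul_assoc (kc α ψ) (kr α _), kr_mul_kc, H.np_mul_kc, Zm, Matrix.mul_assoc (kc α w * (E * adj JA E)), kr_mul_kc, ho, H.sB.self]
    simp
  have hhn : h.1 * (1 + c • Ψ) * (h⁻¹).1 = 1 + c • (Ψ + (Np JA JB w ψ E + Zm JB w (E * adj JA E))) := by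
    rw [Matrix.mul_add, Matrix.mul_one, Matrix.mul_smul, Matrix.add_mul, Matrix.smul_mul, h.mul_inv, e1]
  rw [Units.val_mul, Units.val_mul, Units.val_mul, hn', hn2', hhn, Matrix.mul_add, Matrix.mul_one,
    Matrix.add_mul, Matrix.one_mul, Matrix.mul_smul, Matrix.smul_mul, e2, smul_zero, smul_zero, add_zero,
    smul_add, neg_smul]
  abel

/-- The level of an element fixing `F^α ⊗ w`. -/
theorem level {h : GL (α × β) F} (hh : h ∈ M) {w ψ : β → F} (hw : w ≠ 0) (hψ : ∀ c : F, ψ ≠ c • w)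
    (ho : (JB *ᵥ w) ⬝ᵥ ψ = 0) {E : Matrix α α F} (hfix : h.1 * kc α w = kc α w)
    (hlev : h.1 * kc α ψ = kc α ψ + kc α w * E) (c : F) : D JA JB M (c • E) := by
  have hoψ : (JB *ᵥ ψ) ⬝ᵥ w = 0 := by rw [H.sB.swap, ho, neg_zero]
  obtain ⟨ψ', p1, p2⟩ := H.sB.exists_perp_ne hw hψ 0 1
  obtain ⟨r, hr, hr'⟩ := H.exists_orth_indep ![JB *ᵥ w, JB *ᵥ ψ, JB *ᵥ ψ'] (w := w)
    (by simpa using H.five)
  have r1 : (JB *ᵥ w) ⬝ᵥ r = 0 := hr' 0
  have r2 : (JB *ᵥ ψ) ⬝ᵥ r = 0 := hr' 1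
  have r3 : (JB *ᵥ ψ') ⬝ᵥ r = 0 := hr' 2
  have r3' : (JB *ᵥ r) ⬝ᵥ ψ' = 0 := by rw [H.sB.swap, r3, neg_zero]
  have r1' : (JB *ᵥ r) ⬝ᵥ w = 0 := by rw [H.sB.swap, r1, neg_zero]
  have q1 : (JB *ᵥ ψ') ⬝ᵥ w = 0 := by rw [H.sB.swap, p1, neg_zero]
  -- first the element with level on `ψ`
  have hX := H.level_sq hh ho hlev c
  -- then the commutator with a pair
  have main : InM M (1 + Np JA JB w r (c • E)) := by
    obtain ⟨x, hx, hx'⟩ := hX
    obtain ⟨n, hn, hn'⟩ := H.inM_pair (α := α) r3 1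
    obtain ⟨n2, hn2, hn2'⟩ := H.inM_pair (α := α) r3 (-1)
    refine ⟨x * n * x⁻¹ * n2, M.mul_mem (M.mul_mem (M.mul_mem hx hn) (M.inv_mem hx)) hn2, ?_⟩
    have xψ : x.1 * kc α ψ' = kc α ψ' + kc α w * (c • E) := by
      rw [hx', Matrix.add_mul, Matrix.one_mul, Matrix.smul_mul, Matrix.add_mul, H.np_mul_kc, p1, p2, Zm,
        Matrix.mul_assoc (kc α w * _), kr_mul_kc, p1]
      simp [Matrix.mul_smul]
    have xr : x.1 * kc α r = kc α r := by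
      rw [hx', Matrix.add_mul, Matrix.one_mul, Matrix.smul_mul, Matrix.add_mul, H.np_mul_kc, r1, r2, Zm,
        Matrix.mul_assoc (kc α w * _), kr_mul_kc, r1]
      simp
    have a1 := H.adjoint hx xψ
    have a2 := H.adjoint_fix hx xr
    set N' : Matrix (α × β) (α × β) F := Np JA JB ψ' r 1 with hN'
    have e1 : x.1 * N' * (x⁻¹).1 = N' + Np JA JB w r (c • E) := by
      rw [hN', Np, H.sA.adj_one, Matrix.mul_one, Matrix.mul_one, Matrix.mul_add, Matrix.add_mul,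
        ← Matrix.mul_assoc, ← Matrix.mul_assoc, xψ, xr, Matrix.mul_assoc, a2, Matrix.mul_assoc, a1, Np]
      simp only [Matrix.add_mul, Matrix.mul_add, Matrix.mul_assoc]
      abel
    have e2 : (N' + Np JA JB w r (c • E)) * N' = 0 := by
      rw [Matrix.add_mul, hN', H.np_sq r3, zero_add]
      conv_lhs => rw [Np.eq_def JA JB ψ' r]
      rw [Matrix.mul_add, ← Matrix.mul_assoc, ← Matrix.mul_assoc, ← Matrix.mul_assoc, ← Matrix.mul_assoc,
        H.np_mul_kc, H.np_mul_kc, r3', p1, H.sB.self, r1]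
      simp
    have hxn : x.1 * (1 + N') * (x⁻¹).1 = 1 + (N' + Np JA JB w r (c • E)) := by
      rw [Matrix.mul_add, Matrix.mul_one, Matrix.add_mul, x.mul_inv, e1]
    rw [Units.val_mul, Units.val_mul, Units.val_mul, hn', hn2', one_smul, neg_smul, one_smul, hxn,
      Matrix.mul_add, Matrix.mul_one, Matrix.add_mul, Matrix.one_mul, Matrix.mul_neg, e2]
    abel
  intro w₁ ψ₁ hw₁ hψ₁ ho₁
  obtain ⟨T, hT, hTs, e1, e2⟩ := H.move hw hr r1 hw₁ hψ₁ ho₁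
  have := H.inM_conj H.sA.sp_one hTs hT main
  rwa [e1, e2, Matrix.one_mul, inv_one, Matrix.mul_one] at this

theorem np_inv {w ψ : β → F} (ho : (JB *ᵥ w) ⬝ᵥ ψ = 0) (E : Matrix α α F) :
    (1 + Np JA JB w ψ E) * (1 - Np JA JB w ψ E) = 1 := by
  rw [Matrix.mul_sub, Matrix.mul_one, Matrix.add_mul, Matrix.one_mul, H.np_sq ho]
  abel

theorem pair_exists (w : β → F) : ∃ ψ : β → F, (∀ c : F, ψ ≠ c • w) ∧ (JB *ᵥ w) ⬝ᵥ ψ = 0 := by
  obtain ⟨r, hr, hr'⟩ := H.exists_orth_indep (fun _ : Fin 1 => JB *ᵥ w) (w := w) (by have := H.five; simp; omega)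
  exact ⟨r, hr, hr' 0⟩

theorem d_smul {E : Matrix α α F} (h : D JA JB M E) (c : F) : D JA JB M (c • E) := by
  haveI := H.nonempty_right
  obtain ⟨w, hw, -⟩ := exists_orth (fun i : Fin 0 => (i.elim0 : β → F)) (by have := H.five; simp; omega)
  obtain ⟨ψ, hψ, ho⟩ := H.pair_exists w
  obtain ⟨g, hg, hg'⟩ := h w ψ hw hψ ho
  obtain ⟨y, y1, y2⟩ := H.sB.exists_perp_ne hw hψ 0 1
  have hyw : ∀ d : F, y ≠ d • w := fun d e => by
    rw [e, dotProduct_smul, H.sB.swap, ho, neg_zero, smul_zero] at y2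
    exact zero_ne_one y2
  refine H.level hg hw hyw y1 ?_ ?_ c
  · rw [hg', Matrix.add_mul, Matrix.one_mul, H.np_mul_kc, H.sB.self, H.sB.swap ψ, ho]
    simp
  · rw [hg', Matrix.add_mul, Matrix.one_mul, H.np_mul_kc, y1, y2]
    simp

theorem d_sub {E E' : Matrix α α F} (h : D JA JB M E) (h' : D JA JB M E') : D JA JB M (E - E') := by
  rw [sub_eq_add_neg, ← neg_one_smul F E']
  exact H.d_add h (H.d_smul h' _)

theorem d_one (c : F) : D JA JB M (c • 1) := by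
  intro w ψ hw hψ ho
  have := H.inM_pair (α := α) ho c
  rwa [← H.np_smul] at this

theorem d_mul {E E' : Matrix α α F} (h : D JA JB M E) (h' : D JA JB M E') : D JA JB M (E * E') := by
  haveI := H.nonempty_right
  obtain ⟨w, hw, -⟩ := exists_orth (fun i : Fin 0 => (i.elim0 : β → F)) (by have := H.five; simp; omega)
  obtain ⟨ψ, hψ, ho⟩ := H.pair_exists w
  obtain ⟨ψ', p1, p2⟩ := H.sB.exists_perp_ne hw hψ 0 1
  have hψ'0 : ψ' ≠ 0 := fun e => by simp [e] at p2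
  obtain ⟨r, hr, hr'⟩ := H.exists_orth_indep ![JB *ᵥ w, JB *ᵥ ψ, JB *ᵥ ψ'] (w := w) (by simpa using H.five)
  have r1 : (JB *ᵥ w) ⬝ᵥ r = 0 := hr' 0
  have r2 : (JB *ᵥ ψ) ⬝ᵥ r = 0 := hr' 1
  have r3 : (JB *ᵥ ψ') ⬝ᵥ r = 0 := hr' 2
  have hrψ : ∀ d : F, r ≠ d • ψ' := fun d e => by
    rw [e, dotProduct_smul, p2, smul_eq_mul, mul_one] at r2
    rw [r2, zero_smul] at e
    exact hr 0 (by rw [e, zero_smul])
  have r1' : (JB *ᵥ r) ⬝ᵥ w = 0 := by rw [H.sB.swap, r1, neg_zero]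
  have r3' : (JB *ᵥ r) ⬝ᵥ ψ' = 0 := by rw [H.sB.swap, r3, neg_zero]
  have q1 : (JB *ᵥ ψ') ⬝ᵥ w = 0 := by rw [H.sB.swap, p1, neg_zero]
  have hoψ : (JB *ᵥ ψ) ⬝ᵥ w = 0 := by rw [H.sB.swap, ho, neg_zero]
  -- a test vector for `r`
  obtain ⟨y, hy, hy'⟩ : ∃ y : β → F, (∀ i, ![JB *ᵥ w, JB *ᵥ ψ, JB *ᵥ ψ'] i ⬝ᵥ y = 0) ∧ (JB *ᵥ r) ⬝ᵥ y = 1 := by
    by_contra hne
    push Not at hne
    have hker : ∀ y : β → F, (∀ i, ![JB *ᵥ w, JB *ᵥ ψ, JB *ᵥ ψ'] i ⬝ᵥ y = 0) → (JB *ᵥ r) ⬝ᵥ y = 0 := by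
      intro y hy
      by_contra h0
      refine hne (((JB *ᵥ r) ⬝ᵥ y)⁻¹ • y) (fun i => by rw [dotProduct_smul, hy i, smul_zero]) ?_
      rw [dotProduct_smul, smul_eq_mul, inv_mul_cancel₀ h0]
    obtain ⟨x, x1, x2⟩ := H.sB.exists_perp_ne hw hr 0 1
    let d := ((JB *ᵥ ψ) ⬝ᵥ ψ')⁻¹
    have := hker (x - ((JB *ᵥ ψ) ⬝ᵥ x) • ψ' + ((JB *ᵥ ψ') ⬝ᵥ x) • ψ) (fun i => ?_)
    · rw [dotProduct_add, dotProduct_sub, dotProduct_smul, dotProduct_smul, r3', H.sB.swap r ψ, r2, x2] at this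
      simp at this
    · have p2' : (JB *ᵥ ψ') ⬝ᵥ ψ = -1 := by rw [H.sB.swap, p2]
      fin_cases i <;>
        simp [dotProduct_add, dotProduct_sub, dotProduct_smul, x1, p1, ho, p2, H.sB.self, p2']
  have y1 : (JB *ᵥ w) ⬝ᵥ y = 0 := hy 0
  have y2 : (JB *ᵥ ψ) ⬝ᵥ y = 0 := hy 1
  have y3 : (JB *ᵥ ψ') ⬝ᵥ y = 0 := hy 2
  have hyw : ∀ d : F, y ≠ d • w := fun d e => by
    rw [e, dotProduct_smul, r1', smul_zero] at hy'
    exact zero_ne_one hy'
  obtain ⟨x, hx, hx'⟩ := h w ψ hw hψ ho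
  obtain ⟨x', hxx, hxx'⟩ := h' ψ' r hψ'0 hrψ r3
  have i1 : (x⁻¹).1 = 1 - Np JA JB w ψ E := Units.inv_eq_of_mul_eq_one_right (by rw [hx', H.np_inv ho])
  have i2 : (x'⁻¹).1 = 1 - Np JA JB ψ' r E' := Units.inv_eq_of_mul_eq_one_right (by rw [hxx', H.np_inv r3])
  have hmul : (1 : F) • (E * E') = E * E' := one_smul _ _
  rw [← hmul]
  have X : ∀ v : β → F, x.1 * kc α v = kc α v + (((JB *ᵥ ψ) ⬝ᵥ v) • (kc α w * E) +
      ((JB *ᵥ w) ⬝ᵥ v) • (kc α ψ * adj JA E)) := fun v => by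
    rw [hx', Matrix.add_mul, Matrix.one_mul, H.np_mul_kc]
  have Xi : ∀ v : β → F, (x⁻¹).1 * kc α v = kc α v - (((JB *ᵥ ψ) ⬝ᵥ v) • (kc α w * E) +
      ((JB *ᵥ w) ⬝ᵥ v) • (kc α ψ * adj JA E)) := fun v => by
    rw [i1, Matrix.sub_mul, Matrix.one_mul, H.np_mul_kc]
  have Y : ∀ v : β → F, x'.1 * kc α v = kc α v + (((JB *ᵥ r) ⬝ᵥ v) • (kc α ψ' * E') +
      ((JB *ᵥ ψ') ⬝ᵥ v) • (kc α r * adj JA E')) := fun v => by
    rw [hxx', Matrix.add_mul, Matrix.one_mul, H.np_mul_kc]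
  have Yi : ∀ v : β → F, (x'⁻¹).1 * kc α v = kc α v - (((JB *ᵥ r) ⬝ᵥ v) • (kc α ψ' * E') +
      ((JB *ᵥ ψ') ⬝ᵥ v) • (kc α r * adj JA E')) := fun v => by
    rw [i2, Matrix.sub_mul, Matrix.one_mul, H.np_mul_kc]
  refine H.level (M.mul_mem (M.mul_mem (M.mul_mem hx hxx) (M.inv_mem hx)) (M.inv_mem hxx)) hw hyw y1 ?_ ?_ 1
  · simp only [Units.val_mul, Matrix.mul_assoc, X, Xi, Y, Yi, r1', q1, hoψ, H.sB.self, zero_smul, add_zero, sub_zero]
  · simp only [Units.val_mul, Matrix.mul_assoc, Yi, hy', y3, one_smul, zero_smul, add_zero, Matrix.mul_sub]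
    simp only [← Matrix.mul_assoc (x⁻¹).1, Xi, y1, y2, p1, p2, one_smul, zero_smul, add_zero, sub_zero,
      Matrix.sub_mul, Matrix.mul_sub]
    simp only [Matrix.mul_assoc (kc α w), ← Matrix.mul_assoc x'.1, Y, hy', y3, r3', H.sB.self, r1', q1, one_smul,
      zero_smul, add_zero]
    simp only [Matrix.mul_add, Matrix.mul_sub, ← Matrix.mul_assoc x.1, X, y1, y2, p1, p2, hoψ, H.sB.self, one_smul,
      zero_smul, add_zero, Matrix.add_mul, Matrix.mul_assoc (kc α w)]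
    abel

theorem zm_conj {T : Matrix β β F} (hT : Sp JB T) (w : β → F) (C : Matrix α α F) :
    ((1 : Matrix α α F) ⊗ₖ T) * Zm JB w C * ((1 : Matrix α α F) ⊗ₖ T⁻¹) = Zm JB (T *ᵥ w) C := by
  have hphi : (JB *ᵥ w) ᵥ* T⁻¹ = JB *ᵥ (T *ᵥ w) := by
    rw [← H.sB.vecMul_image hT w, Matrix.vecMul_vecMul, (H.sB.sp_inv hT).1, Matrix.vecMul_one]
  simp only [Zm, ← Matrix.mul_assoc, kron_mul_kc, Matrix.mul_one]
  simp only [Matrix.mul_assoc, kr_mul_kron, hphi, Matrix.one_mul]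

theorem zm_sq (w : β → F) (C C' : Matrix α α F) : Zm JB w C * Zm JB w C' = 0 := by
  simp only [Zm, Matrix.mul_assoc]
  rw [← Matrix.mul_assoc (kr α (JB *ᵥ w)) (kc α w), kr_mul_kc, H.sB.self]
  simp

/-- The central part of a level is a level. -/
theorem d_of_zm {w : β → F} (hw : w ≠ 0) {C : Matrix α α F} (h : InM M (1 + Zm JB w C)) : D JA JB M C := by
  obtain ⟨ψ', hp⟩ := H.sB.exists_form_ne hw
  have q1 : (JB *ᵥ ψ') ⬝ᵥ w = -1 := by rw [H.sB.swap, hp]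
  obtain ⟨r, hr, hr'⟩ := H.exists_orth_indep ![JB *ᵥ w, JB *ᵥ ψ'] (w := w) (by have := H.five; simp; omega)
  have r1 : (JB *ᵥ w) ⬝ᵥ r = 0 := hr' 0
  have r3 : (JB *ᵥ ψ') ⬝ᵥ r = 0 := hr' 1
  have r1' : (JB *ᵥ r) ⬝ᵥ w = 0 := by rw [H.sB.swap, r1, neg_zero]
  have r3' : (JB *ᵥ r) ⬝ᵥ ψ' = 0 := by rw [H.sB.swap, r3, neg_zero]
  have hr0 : r ≠ 0 := fun e => hr 0 (by rw [e, zero_smul])
  have hwr : ∀ d : F, r ≠ d • w := hr
  have hrw : ∀ d : F, w ≠ d • r := fun d e => by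
    by_cases hd : d = 0
    · exact hw (by rw [e, hd, zero_smul])
    · exact hr d⁻¹ (by rw [e, smul_smul, inv_mul_cancel₀ hd, one_smul])
  obtain ⟨T, hT, hTs, eT, -⟩ := H.move hw hwr r1 hr0 hrw r1'
  have e1 : ((1 : Matrix α α F) ⊗ₖ T) * ((1 : Matrix α α F) ⊗ₖ T⁻¹) = 1 := by
    rw [← Matrix.mul_kronecker_mul, (H.sB.sp_inv hTs).1, Matrix.one_mul, Matrix.one_kronecker_one]
  have hZr := (hT.mul h).mul (H.inM_inv hT e1)
  rw [Matrix.mul_add, Matrix.mul_one, Matrix.add_mul, e1, H.zm_conj hTs, eT] at hZr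
  obtain ⟨x, hx, hx'⟩ := h
  obtain ⟨z, hz, hz'⟩ := hZr
  obtain ⟨n, hn, hn'⟩ := H.inM_pair (α := α) r3 1
  obtain ⟨n2, hn2, hn2'⟩ := H.inM_pair (α := α) r3 (-1)
  have i1 : (x⁻¹).1 = 1 - Zm JB w C := by
    refine Units.inv_eq_of_mul_eq_one_right ?_
    rw [hx', Matrix.mul_sub, Matrix.mul_one, Matrix.add_mul, Matrix.one_mul, H.zm_sq]
    abel
  obtain ⟨y, hy1, hy2⟩ := H.sB.exists_perp_ne hw hwr 0 1
  -- correct `y` at `ψ'`
  set y' := y + ((JB *ᵥ ψ') ⬝ᵥ y) • w with hy'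
  have a1 : (JB *ᵥ w) ⬝ᵥ y' = 0 := by rw [hy', dotProduct_add, dotProduct_smul, hy1, H.sB.self, smul_zero, add_zero]
  have a2 : (JB *ᵥ ψ') ⬝ᵥ y' = 0 := by
    rw [hy', dotProduct_add, dotProduct_smul, q1, smul_eq_mul, mul_neg, mul_one, add_neg_cancel]
  have a3 : (JB *ᵥ r) ⬝ᵥ y' = 1 := by rw [hy', dotProduct_add, dotProduct_smul, hy2, r1', smul_zero, add_zero]
  have hyw : ∀ d : F, y' ≠ d • w := fun d e => by
    rw [e, dotProduct_smul, r1', smul_zero] at a3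
    exact zero_ne_one a3
  have hz1 : ∀ v : β → F, Zm JB r C * kc α v = ((JB *ᵥ r) ⬝ᵥ v) • (kc α r * C) := fun v => by
    simp only [Zm, Matrix.mul_assoc, kr_mul_kc, Matrix.mul_smul, Matrix.mul_one]
  have hx1 : ∀ v : β → F, Zm JB w C * kc α v = ((JB *ᵥ w) ⬝ᵥ v) • (kc α w * C) := fun v => by
    simp only [Zm, Matrix.mul_assoc, kr_mul_kc, Matrix.mul_smul, Matrix.mul_one]
  have hmul : (1 : F) • C = C := one_smul _ _
  rw [← hmul]
  have X : ∀ v : β → F, x.1 * kc α v = kc α v + ((JB *ᵥ w) ⬝ᵥ v) • (kc α w * C) := fun v => by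
    rw [hx', Matrix.add_mul, Matrix.one_mul, hx1]
  have Xi : ∀ v : β → F, (x⁻¹).1 * kc α v = kc α v - ((JB *ᵥ w) ⬝ᵥ v) • (kc α w * C) := fun v => by
    rw [i1, Matrix.sub_mul, Matrix.one_mul, hx1]
  have Z : ∀ v : β → F, z.1 * kc α v = kc α v + ((JB *ᵥ r) ⬝ᵥ v) • (kc α r * C) := fun v => by
    rw [hz', Matrix.add_mul, Matrix.one_mul, hz1]
  have Nn : ∀ v : β → F, n.1 * kc α v = kc α v + (((JB *ᵥ r) ⬝ᵥ v) • kc α ψ' + ((JB *ᵥ ψ') ⬝ᵥ v) • kc α r) :=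
    fun v => by
      rw [hn', one_smul, Matrix.add_mul, Matrix.one_mul, H.np_mul_kc, H.sA.adj_one, Matrix.mul_one, Matrix.mul_one]
  have Ni : ∀ v : β → F, n2.1 * kc α v = kc α v - (((JB *ᵥ r) ⬝ᵥ v) • kc α ψ' + ((JB *ᵥ ψ') ⬝ᵥ v) • kc α r) :=
    fun v => by
      rw [hn2', neg_smul, one_smul, Matrix.add_mul, Matrix.one_mul, Matrix.neg_mul, H.np_mul_kc, H.sA.adj_one,
        Matrix.mul_one, Matrix.mul_one, sub_eq_add_neg]
  refine H.level (M.mul_mem hz (M.mul_mem (M.mul_mem (M.mul_mem hx hn) (M.inv_mem hx)) hn2)) hw hyw a1 ?_ ?_ 1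
  · simp only [Units.val_mul, Matrix.mul_assoc, Ni, r1', q1, zero_smul, zero_add, neg_smul, one_smul, sub_neg_eq_add,
      Matrix.mul_add]
    simp only [Xi, H.sB.self, r1, zero_smul, sub_zero]
    simp only [Nn, H.sB.self, r1', r3, q1, r1, zero_smul, zero_add, add_zero, neg_smul, one_smul, Matrix.mul_add,
      Matrix.mul_neg]
    simp only [X, H.sB.self, r1, zero_smul, add_zero, Matrix.mul_add, Matrix.mul_neg]
    simp only [Z, r1', H.sB.self, zero_smul, add_zero]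
    abel
  · simp only [Units.val_mul, Matrix.mul_assoc, Ni, a3, a2, zero_smul, one_smul, add_zero, Matrix.mul_sub]
    simp only [Xi, a1, hp, zero_smul, one_smul, sub_zero, Matrix.mul_sub]
    simp only [← Matrix.mul_assoc n.1, Nn, a2, a3, r3', H.sB.self, r1', q1, zero_smul, zero_add, add_zero, neg_smul,
      one_smul, Matrix.add_mul, Matrix.neg_mul]
    simp only [Matrix.mul_add, Matrix.mul_sub, Matrix.mul_neg, ← Matrix.mul_assoc x.1, X, a1, hp, r1, H.sB.self,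
      zero_smul, one_smul, add_zero]
    simp only [Matrix.mul_add, Matrix.mul_sub, Matrix.mul_neg, ← Matrix.mul_assoc z.1, Z, a3, r1', r3', H.sB.self,
      zero_smul, one_smul, add_zero]
    abel

/-- The norm of a level is a central part. -/
theorem zm_norm {E : Matrix α α F} (hE : D JA JB M E) {w : β → F} (hw : w ≠ 0) :
    InM M (1 + Zm JB w (E * adj JA E)) := by
  obtain ⟨ψ, hψ, ho⟩ := H.pair_exists w
  obtain ⟨g, hg, hg'⟩ := hE w ψ hw hψ ho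
  obtain ⟨y, y1, y2⟩ := H.sB.exists_perp_ne hw hψ 0 1
  have hyw : ∀ d : F, y ≠ d • w := fun d e => by
    rw [e, dotProduct_smul, H.sB.swap, ho, neg_zero, smul_zero] at y2
    exact zero_ne_one y2
  have hX := H.level_sq hg y1 (E := E) (by
    rw [hg', Matrix.add_mul, Matrix.one_mul, H.np_mul_kc, y1, y2]
    simp) 1
  rw [one_smul] at hX
  have h := hX.mul (hE w y hw hyw y1)
  have z : Zm JB w (E * adj JA E) * Np JA JB w y E = 0 := by
    rw [Np, Zm, Matrix.mul_add]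
    simp only [Matrix.mul_assoc]
    rw [← Matrix.mul_assoc (kr α (JB *ᵥ w)) (kc α w), kr_mul_kc, ← Matrix.mul_assoc (kr α (JB *ᵥ w)) (kc α y),
      kr_mul_kc, H.sB.self, y1]
    simp
  convert h using 1
  simp only [Matrix.mul_add, Matrix.add_mul, Matrix.mul_one, Matrix.one_mul, H.np_sq y1, z, add_zero]
  linear_combination (norm := module) -(H.two • Np JA JB w y E)

/-- When the central parts are scalar, the levels are quadratic for the adjoint. -/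
theorem d_quad (hS : ∀ w : β → F, w ≠ 0 → ∀ C : Matrix α α F, InM M (1 + Zm JB w C) → ∃ c : F, C = c • 1)
    {E : Matrix α α F} (hE : D JA JB M E) : ∃ a n : F, adj JA E = E + a • 1 ∧ E * adj JA E = n • 1 := by
  haveI := H.nonempty_right
  obtain ⟨w, hw, -⟩ := exists_orth (fun i : Fin 0 => (i.elim0 : β → F)) (by have := H.five; simp; omega)
  obtain ⟨n, hn⟩ := hS w hw _ (H.zm_norm hE hw)
  obtain ⟨n', hn'⟩ := hS w hw _ (H.zm_norm (H.d_add hE (H.d_one 1)) hw)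
  refine ⟨n' - n - 1, n, ?_, hn⟩
  rw [one_smul, H.sA.adj_add, H.sA.adj_one, Matrix.mul_add, Matrix.add_mul, Matrix.mul_one, Matrix.one_mul, hn] at hn'
  linear_combination (norm := module) hn' - H.two • (E : Matrix α α F)

/-- The levels are invariant under the isometries of the first factor. -/
theorem d_conj {E : Matrix α α F} (h : D JA JB M E) {S : Matrix α α F} (hS : Sp JA S)
    (hM : InM M (S ⊗ₖ (1 : Matrix β β F))) : D JA JB M (S * E * S⁻¹) := by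
  intro w ψ hw hψ ho
  have e := H.inM_conj hS H.sB.sp_one hM (h w ψ hw hψ ho)
  rwa [Matrix.one_mulVec, Matrix.one_mulVec] at e

end Hyp

end CfsgLib.Classical.TensorWreathT.Pair
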