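import Cfsg.Agent.Lib.Classical.TensorWreathT.Pair

set_option autoImplicit false
set_option linter.unusedSectionVars false

/-!
Characteristic two: when the levels are scalars, an element stabilising `F^α ⊗ w` by an isometry of the first factor
is a Kronecker product.
-/

namespace CfsgLib.Classical.TensorWreathT.Pair

open Matrix CfsgLib.Classical.TensorMax
open CfsgLib.Classical.TensorSymp (adj Sp AForm tv Np Zm D kr_mul_apply kc_mul_apply eq_of_mul_kc_all)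
open CfsgLib.Classical.TensorWreathT (neg_two sub_two eq_of_add split_kc exists_indep_orth)
open scoped MatrixGroups Kronecker

variable {F : Type*} [Field F] [Finite F] {α β : Type} [Fintype α] [DecidableEq α] [Fintype β] [DecidableEq β]
variable {JA : Matrix α α F} {JB : Matrix β β F} {M : Subgroup (GL (α × β) F)}

namespace Hyp

variable (H : Hyp JA JB M)
include H

/-- The contractions orthogonal to `w` are multiples of `A`. -/
theorem blk_scalar (hD : ∀ E, D JA JB M E → ∃ c : F, E = c • 1) {g : GL (α × β) F} (hg : g ∈ M) {w : β → F}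
    (hw : w ≠ 0) {A : Matrix α α F} (hA : g.1 * kc α w = kc α w * A) (hAA : A * adj JA A = 1) {ψ y : β → F}
    (hψ : (JB *ᵥ w) ⬝ᵥ ψ = 0) (hy : (JB *ᵥ w) ⬝ᵥ y = 0) :
    ∃ s : F, kr α (JB *ᵥ ψ) * g.1 * kc α y = s • A := by
  have hψw : (JB *ᵥ ψ) ⬝ᵥ w = 0 := by rw [H.sB.swap, hψ, neg_zero]
  by_cases hyw : ∀ d : F, y ≠ d • w
  · have hgi : (g⁻¹).1 * kc α w = kc α w * adj JA A := by
      calc (g⁻¹).1 * kc α w = (g⁻¹).1 * (kc α w * A * adj JA A) := by rw [Matrix.mul_assoc (kc α w), hAA, Matrix.mul_one]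
        _ = kc α w * adj JA A := by rw [← hA, ← Matrix.mul_assoc, ← Matrix.mul_assoc, g.inv_mul, Matrix.one_mul]
    have hkr : kr α (JB *ᵥ w) * g.1 = A * kr α (JB *ᵥ w) := by
      have := H.adjoint (M.inv_mem hg) (y := w) (y' := 0) (w := w) (E := adj JA A) (by
        rw [hgi, show (0 : β → F) = (0 : F) • w by rw [zero_smul], kc_smul, zero_smul, zero_add])
      rwa [Matrix.mulVec_zero, kr_zero, zero_add, H.sA.adj_adj, inv_inv] at this
    obtain ⟨t, ht, ht'⟩ := H.inM_pair (α := α) hψ 1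
    rw [one_smul] at ht'
    obtain ⟨X, hX⟩ : ∃ X, X = kr α (JB *ᵥ ψ) * g.1 * kc α y := ⟨_, rfl⟩
    have np : ∀ v : Matrix (α × β) α F, Np JA JB w ψ 1 * v =
        kc α w * (kr α (JB *ᵥ ψ) * v) + kc α ψ * (kr α (JB *ᵥ w) * v) := fun v => by
      rw [Np, H.sA.adj_one]
      simp only [Matrix.mul_one, Matrix.add_mul, Matrix.mul_assoc]
    have hfix : (g⁻¹ * t * g).1 * kc α w = kc α w := by
      rw [Units.val_mul, Units.val_mul, Matrix.mul_assoc, hA, Matrix.mul_assoc, ← Matrix.mul_assoc t.1, ht',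
        Matrix.add_mul, Matrix.one_mul, H.np_mul_kc, H.sB.self, hψw, zero_smul, zero_smul, add_zero, add_zero, ← hA,
        ← Matrix.mul_assoc, g.inv_mul, Matrix.one_mul]
    have hlev : (g⁻¹ * t * g).1 * kc α y = kc α y + kc α w * (adj JA A * X) := by
      rw [Units.val_mul, Units.val_mul, Matrix.mul_assoc, Matrix.mul_assoc, ht', Matrix.add_mul, Matrix.one_mul, np,
        ← Matrix.mul_assoc (kr α (JB *ᵥ w)), hkr, Matrix.mul_assoc A, kr_mul_kc, hy, zero_smul, Matrix.mul_zero,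
        Matrix.mul_zero, add_zero, Matrix.mul_add, ← Matrix.mul_assoc _ g.1, g.inv_mul, Matrix.one_mul, hX,
        ← Matrix.mul_assoc (g⁻¹).1 (kc α w), hgi]
      simp only [Matrix.mul_assoc]
    obtain ⟨s, hs⟩ := hD _ (H.level (M.mul_mem (M.mul_mem (M.inv_mem hg) ht) hg) hw hyw hy hfix hlev 1)
    refine ⟨s, ?_⟩
    rw [one_smul] at hs
    have := congrArg (A * ·) hs
    simp only [← Matrix.mul_assoc, hAA, Matrix.one_mul, Matrix.mul_smul, Matrix.mul_one] at this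
    rw [← hX, this]
  · push Not at hyw
    obtain ⟨d, rfl⟩ := hyw
    refine ⟨0, ?_⟩
    rw [kc_smul, Matrix.mul_smul, Matrix.mul_assoc, hA, ← Matrix.mul_assoc, kr_mul_kc, hψw]
    simp

/-- The image of a line orthogonal to `w`. -/
theorem line (hD : ∀ E, D JA JB M E → ∃ c : F, E = c • 1) {g : GL (α × β) F} (hg : g ∈ M) {w : β → F}
    (hw : w ≠ 0) {A : Matrix α α F} (hA : g.1 * kc α w = kc α w * A) (hAA : A * adj JA A = 1) {y : β → F}
    (hy : (JB *ᵥ w) ⬝ᵥ y = 0) : ∃ y' : β → F, g.1 * kc α y = kc α y' * A := by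
  classical
  by_cases hyw : ∀ d : F, y ≠ d • w
  swap
  · push Not at hyw
    obtain ⟨d, rfl⟩ := hyw
    exact ⟨d • w, by rw [kc_smul, Matrix.mul_smul, hA, Matrix.smul_mul]⟩
  obtain ⟨i₀⟩ := H.ne
  haveI := H.ne
  have hA' : adj JA A * A = 1 := mul_eq_one_comm.1 hAA
  obtain ⟨θ, hθ⟩ := exists_dual_one hw
  obtain ⟨X, hX⟩ : ∃ X : Matrix (α × β) α F, X = g.1 * kc α y * adj JA A := ⟨_, rfl⟩
  obtain ⟨y', hy'⟩ : ∃ y' : β → F, y' = fun k => X (i₀, k) i₀ := ⟨_, rfl⟩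
  have h0 : ∀ a, (JB *ᵥ w) ⬝ᵥ a = 0 → kr α (JB *ᵥ a) * (X - kc α y') = 0 := fun a ha => by
    obtain ⟨s, hs⟩ := H.blk_scalar hD hg hw hA hAA ha hy
    have e1 : kr α (JB *ᵥ a) * X = s • 1 := by
      rw [hX, ← Matrix.mul_assoc, ← Matrix.mul_assoc, hs, Matrix.smul_mul, hAA]
    have e2 := congrFun₂ e1 i₀ i₀
    rw [kr_mul_apply, Matrix.smul_apply, Matrix.one_apply_eq, smul_eq_mul, mul_one] at e2
    rw [Matrix.mul_sub, e1, kr_mul_kc, hy', e2, sub_self]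
  obtain ⟨E, hE⟩ : ∃ E, E = kr α θ * (X - kc α y') := ⟨_, rfl⟩
  have hgy : g.1 * kc α y = (kc α y' + kc α w * E) * A := by
    rw [hE, ← split_kc H.sB hθ h0, add_sub_cancel, hX, Matrix.mul_assoc, hA', Matrix.mul_one]
  -- the image is orthogonal to `w`
  have hgi : (g⁻¹).1 * kc α w = kc α w * adj JA A := by
    calc (g⁻¹).1 * kc α w = (g⁻¹).1 * (kc α w * A * adj JA A) := by rw [Matrix.mul_assoc (kc α w), hAA, Matrix.mul_one]
      _ = kc α w * adj JA A := by rw [← hA, ← Matrix.mul_assoc, ← Matrix.mul_assoc, g.inv_mul, Matrix.one_mul]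
  have hkr : kr α (JB *ᵥ w) * g.1 = A * kr α (JB *ᵥ w) := by
    have := H.adjoint (M.inv_mem hg) (y := w) (y' := 0) (w := w) (E := adj JA A) (by
      rw [hgi, show (0 : β → F) = (0 : F) • w by rw [zero_smul], kc_smul, zero_smul, zero_add])
    rwa [Matrix.mulVec_zero, kr_zero, zero_add, H.sA.adj_adj, inv_inv] at this
  have hwy' : (JB *ᵥ w) ⬝ᵥ y' = 0 := by
    have h1 := congrArg (kr α (JB *ᵥ w) * ·) hgy
    simp only [← Matrix.mul_assoc, hkr, Matrix.mul_add] at h1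
    rw [Matrix.mul_assoc A, kr_mul_kc, hy, zero_smul, Matrix.mul_zero, kr_mul_kc, kr_mul_kc, H.sB.self, zero_smul,
      Matrix.zero_mul, add_zero, Matrix.smul_mul, Matrix.one_mul] at h1
    refine (smul_eq_zero.1 h1.symm).resolve_right fun e => ?_
    rw [e, Matrix.zero_mul] at hAA
    exact zero_ne_one (congrFun₂ hAA i₀ i₀ |>.trans (by simp))
  have hy'w : ∀ d : F, y' ≠ d • w := fun d e => by
    have h1 := congrArg ((g⁻¹).1 * ·) hgy
    simp only [← Matrix.mul_assoc, g.inv_mul, Matrix.one_mul, e, kc_smul, Matrix.mul_add, Matrix.mul_smul, hgi] at h1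
    obtain ⟨η, t1, t2⟩ := exists_dual_pair hw hyw 0 1
    have h3 := congrArg (fun Z => (kr α η * Z) i₀ i₀) h1
    simp only [Matrix.mul_add, Matrix.add_mul, Matrix.mul_smul, Matrix.smul_mul, ← Matrix.mul_assoc, kr_mul_kc, t1, t2,
      zero_smul, one_smul, Matrix.zero_mul, smul_zero, add_zero, Matrix.one_apply_eq, Matrix.zero_apply] at h3
    exact one_ne_zero h3
  -- the commutator with a root
  have hker : kr α (JB *ᵥ y) * (g⁻¹).1 = adj JA A * (kr α (JB *ᵥ y') + adj JA E * kr α (JB *ᵥ w)) := by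
    have hform : (JA ⊗ₖ JB) * (g⁻¹).1 = g.1ᵀ * (JA ⊗ₖ JB) := by
      conv_lhs => rw [← H.le g hg]
      rw [Matrix.mul_assoc _ g.1, g.mul_inv, Matrix.mul_one]
    have e : JA * (kr α (JB *ᵥ y) * (g⁻¹).1) = Aᵀ * (JA * kr α (JB *ᵥ y') + Eᵀ * (JA * kr α (JB *ᵥ w))) := by
      have h1 : (kc α y : Matrix (α × β) α F)ᵀ * (JA ⊗ₖ JB) * (g⁻¹).1 = (g.1 * kc α y)ᵀ * (JA ⊗ₖ JB) := by
        rw [Matrix.transpose_mul, Matrix.mul_assoc, hform, Matrix.mul_assoc]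
      rw [hgy, Matrix.transpose_mul, Matrix.transpose_add, Matrix.mul_assoc Aᵀ, Matrix.add_mul, Matrix.transpose_mul,
        Matrix.mul_assoc Eᵀ, H.kc_transpose_mul, H.kc_transpose_mul, H.kc_transpose_mul, neg_two H.two,
        neg_two H.two, neg_two H.two, Matrix.mul_assoc] at h1
      exact h1
    have e2 := congrArg (JA⁻¹ * ·) e
    simp only [← Matrix.mul_assoc, Matrix.nonsing_inv_mul JA H.sA.isUnit_det, Matrix.one_mul] at e2
    rw [e2, adj, adj]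
    simp only [Matrix.mul_add, Matrix.mul_assoc, Matrix.mul_nonsing_inv_cancel_left JA _ H.sA.isUnit_det]
  obtain ⟨n, hn, hn'⟩ := H.inM_tvB y 1
  obtain ⟨n', hnn, hnn'⟩ := H.inM_tvB y' 1
  obtain ⟨x, hx⟩ : ∃ x, x = g * n * g⁻¹ * n' := ⟨_, rfl⟩
  have hxM : x ∈ M := hx ▸ M.mul_mem (M.mul_mem (M.mul_mem hg hn) (M.inv_mem hg)) hnn
  have hkk : ∀ a : β → F, (1 : Matrix α α F) ⊗ₖ tv JB a 1 = 1 + kc α a * kr α (JB *ᵥ a) := fun a => by
    rw [tv, one_smul, Matrix.kronecker_add, Matrix.one_kronecker_one, ← kc_mul_kr]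
  have hxv : x.1 = 1 + (Np JA JB w y' E + Zm JB w (E * adj JA E)) := by
    obtain ⟨Ψ, hΨ⟩ : ∃ Ψ : Matrix (α × β) (α × β) F, Ψ = kc α y' * kr α (JB *ᵥ y') := ⟨_, rfl⟩
    have e1 : g.1 * (kc α y * kr α (JB *ᵥ y)) * (g⁻¹).1 = Ψ + (Np JA JB w y' E + Zm JB w (E * adj JA E)) := by
      rw [← Matrix.mul_assoc, hgy, Matrix.mul_assoc, hker, Matrix.mul_assoc (kc α y' + kc α w * E),
        ← Matrix.mul_assoc A, hAA, Matrix.one_mul, hΨ]
      simp only [Np, Zm, Matrix.add_mul, Matrix.mul_add, Matrix.mul_assoc]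
      abel
    have e2 : (Ψ + (Np JA JB w y' E + Zm JB w (E * adj JA E))) * Ψ = 0 := by
      rw [hΨ, ← Matrix.mul_assoc, Matrix.add_mul (kc α y' * kr α (JB *ᵥ y')), Matrix.add_mul (Np JA JB w y' E),
        Matrix.mul_assoc (kc α y') (kr α _), kr_mul_kc, H.np_mul_kc, Zm, Matrix.mul_assoc (kc α w * (E * adj JA E)),
        kr_mul_kc, hwy', H.sB.self]
      simp
    rw [hx, Units.val_mul, Units.val_mul, Units.val_mul, hn', hnn', hkk, hkk, Matrix.mul_add g.1, Matrix.mul_one,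
      Matrix.add_mul g.1, g.mul_inv, e1, ← hΨ, Matrix.mul_add, Matrix.mul_one, Matrix.add_mul, Matrix.one_mul, e2,
      add_zero]
    linear_combination (norm := module) H.two • Ψ
  obtain ⟨ψ, p1, p2⟩ := H.sB.exists_perp_ne hw hy'w 0 1
  have hy'w0 : (JB *ᵥ y') ⬝ᵥ w = 0 := by rw [H.sB.swap, hwy', neg_zero]
  have hψw : ∀ d : F, ψ ≠ d • w := fun d e => by
    rw [e, dotProduct_smul, hy'w0, smul_zero] at p2
    exact zero_ne_one p2
  obtain ⟨s, hs⟩ := hD _ (H.level hxM hw hψw p1 (E := E) (by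
    rw [hxv, Matrix.add_mul, Matrix.one_mul, Matrix.add_mul, H.np_mul_kc, Zm, Matrix.mul_assoc (kc α w * _), kr_mul_kc,
      H.sB.self, hy'w0]
    simp) (by
    rw [hxv, Matrix.add_mul, Matrix.one_mul, Matrix.add_mul, H.np_mul_kc, Zm, Matrix.mul_assoc (kc α w * _), kr_mul_kc,
      p1, p2]
    simp) 1)
  rw [one_smul] at hs
  refine ⟨y' + s • w, ?_⟩
  rw [hgy, hs, Matrix.mul_smul, Matrix.mul_one, kc_add, kc_smul]

/-- An element stabilising `F^α ⊗ w` by an isometry. -/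
theorem tens_of_stab (hD : ∀ E, D JA JB M E → ∃ c : F, E = c • 1) {g : GL (α × β) F} (hg : g ∈ M) {w : β → F}
    (hw : w ≠ 0) {A : Matrix α α F} (hA : g.1 * kc α w = kc α w * A) (hAA : A * adj JA A = 1) :
    ∃ T : Matrix β β F, g.1 = A ⊗ₖ T := by
  classical
  obtain ⟨z, hz⟩ := H.sB.exists_form_ne hw
  obtain ⟨a, ha, ha'⟩ := exists_orth ![JB *ᵥ w, JB *ᵥ z] (by have := H.five; simp; omega)
  obtain ⟨a', hga⟩ := H.line hD hg hw hA hAA (y := a) (ha' 0)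
  haveI := H.ne
  haveI := H.nonempty_right
  obtain ⟨i₀⟩ := H.ne
  have ha0 : a' ≠ 0 := fun e => ha (funext fun k => by
    rw [e, show (0 : β → F) = (0 : F) • w by rw [zero_smul], kc_smul, zero_smul, Matrix.zero_mul] at hga
    have h1 := congrArg ((g⁻¹).1 * ·) hga
    simp only [← Matrix.mul_assoc, g.inv_mul, Matrix.one_mul, Matrix.mul_zero] at h1
    simpa [kc_apply] using congrFun₂ h1 (i₀, k) i₀)
  have h3 : 3 ≤ Fintype.card β := le_trans (by norm_num) H.five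
  obtain ⟨b, hb, hb'⟩ := exists_indep_orth H.sB h3 a
  obtain ⟨b', hbb, hbb'⟩ := exists_indep_orth H.sB h3 a'
  obtain ⟨S, -, hS, hSa, -⟩ := H.sB.exists_move (fun _ => True) trivial (fun _ _ _ _ => trivial) (fun _ _ => trivial)
    ha0 hbb hbb' ha hb hb'
  obtain ⟨n, hn, hn'⟩ := H.right S hS
  have hnw : (n * g).1 * kc α a = kc α a * A := by
    rw [Units.val_mul, Matrix.mul_assoc, hga, ← Matrix.mul_assoc, hn', kron_mul_kc, Matrix.mul_one, hSa]
  obtain ⟨z', hz'⟩ := H.line hD (M.mul_mem hn hg) ha hnw hAA (y := z)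
    (by rw [H.sB.swap, show (JB *ᵥ z) ⬝ᵥ a = 0 from ha' 1, neg_zero])
  have hgz : g.1 * kc α z = kc α (S⁻¹ *ᵥ z') * A := by
    have h1 := congrArg ((1 : Matrix α α F) ⊗ₖ S⁻¹ * ·) hz'
    simp only [Units.val_mul, ← Matrix.mul_assoc, hn', ← Matrix.mul_kronecker_mul, Matrix.one_mul,
      mul_eq_one_comm.1 (H.sB.sp_inv hS).1, Matrix.one_kronecker_one, kron_mul_kc, Matrix.mul_one] at h1
    exact h1
  have hall : ∀ v : β → F, ∃ v' : β → F, g.1 * kc α v = kc α v' * A := fun v => by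
    obtain ⟨v', hv'⟩ := H.line hD hg hw hA hAA (y := v - ((JB *ᵥ w) ⬝ᵥ v) • z)
      (by rw [dotProduct_sub, dotProduct_smul, hz, smul_eq_mul, mul_one, sub_self])
    refine ⟨v' + ((JB *ᵥ w) ⬝ᵥ v) • (S⁻¹ *ᵥ z'), ?_⟩
    have hd : kc α v = kc α (v - ((JB *ᵥ w) ⬝ᵥ v) • z) + ((JB *ᵥ w) ⬝ᵥ v) • kc α z := by
      rw [← kc_smul, ← kc_add, sub_add_cancel]
    rw [hd, Matrix.mul_add, hv', Matrix.mul_smul, hgz, kc_add, kc_smul, Matrix.add_mul, Matrix.smul_mul]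
  choose f hf using hall
  obtain ⟨T, hT⟩ : ∃ T : Matrix β β F, T = Matrix.of fun k l => f (Pi.single l 1) k := ⟨_, rfl⟩
  refine ⟨T, ?_⟩
  ext ⟨i, k⟩ ⟨j, l⟩
  have h1 := congrFun₂ (hf (Pi.single l 1)) (i, k) j
  rw [kc_mul_apply, Matrix.mul_apply, Fintype.sum_eq_single (j, l)] at h1
  · rw [Matrix.kroneckerMap_apply, hT, Matrix.of_apply, mul_comm (A i j), ← h1]
    simp [kc_apply]
  · rintro ⟨c, d⟩ hne
    rw [kc_apply]
    split_ifs with hc
    · subst hc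
      rw [Pi.single_eq_of_ne (fun e => hne (by rw [e])), mul_zero]
    · rw [mul_zero]

/-- A root conjugated by an element commuting with a pair of orthogonal roots of the second factor. -/
theorem conj_root_tens (hD : ∀ E, D JA JB M E → ∃ c : F, E = c • 1) {g : GL (α × β) F} (hg : g ∈ M) {u s : β → F}
    (hu : u ≠ 0) (hs : ∀ c : F, s ≠ c • u) (hus : (JB *ᵥ u) ⬝ᵥ s = 0)
    (hc : g.1 * (kc α u * kr α (JB *ᵥ u) + kc α s * kr α (JB *ᵥ s)) =
      (kc α u * kr α (JB *ᵥ u) + kc α s * kr α (JB *ᵥ s)) * g.1) :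
    ∃ T : Matrix β β F, g.1 * ((1 : Matrix α α F) ⊗ₖ tv JB u 1) * (g⁻¹).1 = (1 : Matrix α α F) ⊗ₖ T := by
  haveI := H.ne
  obtain ⟨y, y1, y2⟩ := H.sB.exists_perp_ne hu hs 1 0
  obtain ⟨y', y1', y2'⟩ := H.sB.exists_perp_ne hu hs 0 1
  obtain ⟨r, hr, hr'⟩ := exists_orth ![JB *ᵥ u, JB *ᵥ s, JB *ᵥ y, JB *ᵥ y'] (by have := H.five; simp; omega)
  have hsu : (JB *ᵥ s) ⬝ᵥ u = 0 := by rw [H.sB.swap, hus, neg_zero]
  have r1 : (JB *ᵥ u) ⬝ᵥ r = 0 := hr' 0
  have r2 : (JB *ᵥ s) ⬝ᵥ r = 0 := hr' 1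
  have r3 : (JB *ᵥ y) ⬝ᵥ r = 0 := hr' 2
  have r4 : (JB *ᵥ y') ⬝ᵥ r = 0 := hr' 3
  have r3' : (JB *ᵥ r) ⬝ᵥ y = 0 := by rw [H.sB.swap, r3, neg_zero]
  have r4' : (JB *ᵥ r) ⬝ᵥ y' = 0 := by rw [H.sB.swap, r4, neg_zero]
  have r1' : (JB *ᵥ r) ⬝ᵥ u = 0 := by rw [H.sB.swap, r1, neg_zero]
  have r2' : (JB *ᵥ r) ⬝ᵥ s = 0 := by rw [H.sB.swap, r2, neg_zero]
  have q1 : (JB *ᵥ y) ⬝ᵥ u = 1 := by rw [H.sB.swap, y1, neg_two H.two]
  have hyr : ∀ c : F, y ≠ c • r := fun c e => by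
    rw [e, dotProduct_smul, r1, smul_zero] at y1
    exact zero_ne_one y1
  have hy'r : ∀ c : F, y' ≠ c • r := fun c e => by
    rw [e, dotProduct_smul, r2, smul_zero] at y2'
    exact zero_ne_one y2'
  obtain ⟨Z, hZ⟩ : ∃ Z : Matrix (α × β) (α × β) F,
      Z = kc α u * kr α (JB *ᵥ u) + kc α s * kr α (JB *ᵥ s) := ⟨_, rfl⟩
  rw [← hZ] at hc
  obtain ⟨A, hA⟩ : ∃ A, A = kr α (JB *ᵥ u) * g.1 * kc α y := ⟨_, rfl⟩
  obtain ⟨B, hB⟩ : ∃ B, B = kr α (JB *ᵥ s) * g.1 * kc α y := ⟨_, rfl⟩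
  have hgu : g.1 * kc α u = kc α u * A + kc α s * B := by
    have e : Z * kc α y = kc α u := by
      rw [hZ, Matrix.add_mul, Matrix.mul_assoc, Matrix.mul_assoc, kr_mul_kc, kr_mul_kc, y1, y2]
      simp
    rw [← e, ← Matrix.mul_assoc, hc, e, hA, hB, hZ]
    simp only [Matrix.add_mul, Matrix.mul_assoc]
  have hker : kr α (JB *ᵥ u) * (g⁻¹).1 = adj JA A * kr α (JB *ᵥ u) + adj JA B * kr α (JB *ᵥ s) := by
    have hform : (JA ⊗ₖ JB) * (g⁻¹).1 = g.1ᵀ * (JA ⊗ₖ JB) := by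
      conv_lhs => rw [← H.le g hg]
      rw [Matrix.mul_assoc _ g.1, g.mul_inv, Matrix.mul_one]
    have e : JA * (kr α (JB *ᵥ u) * (g⁻¹).1) = Aᵀ * (JA * kr α (JB *ᵥ u)) + Bᵀ * (JA * kr α (JB *ᵥ s)) := by
      have h1 : (kc α u : Matrix (α × β) α F)ᵀ * (JA ⊗ₖ JB) * (g⁻¹).1 = (g.1 * kc α u)ᵀ * (JA ⊗ₖ JB) := by
        rw [Matrix.transpose_mul, Matrix.mul_assoc, hform, Matrix.mul_assoc]
      rw [hgu, Matrix.transpose_add, Matrix.add_mul, Matrix.transpose_mul, Matrix.transpose_mul, Matrix.mul_assoc Aᵀ,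
        Matrix.mul_assoc Bᵀ, H.kc_transpose_mul, H.kc_transpose_mul, neg_two H.two, neg_two H.two,
        Matrix.mul_assoc] at h1
      exact h1
    have e2 := congrArg (JA⁻¹ * ·) e
    simp only [Matrix.mul_add, ← Matrix.mul_assoc, Matrix.nonsing_inv_mul JA H.sA.isUnit_det, Matrix.one_mul] at e2
    rw [e2, adj, adj]
  obtain ⟨P, hP⟩ : ∃ P, P = A * adj JA A := ⟨_, rfl⟩
  obtain ⟨Q, hQ⟩ : ∃ Q, Q = A * adj JA B := ⟨_, rfl⟩
  obtain ⟨Q', hQ'⟩ : ∃ Q', Q' = B * adj JA A := ⟨_, rfl⟩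
  obtain ⟨R, hR⟩ : ∃ R, R = B * adj JA B := ⟨_, rfl⟩
  have aP : adj JA P = P := by rw [hP, H.sA.adj_mul, H.sA.adj_adj]
  have aQ : adj JA Q' = Q := by rw [hQ', hQ, H.sA.adj_mul, H.sA.adj_adj]
  obtain ⟨n, hn, hn'⟩ := H.inM_tvB u 1
  obtain ⟨k, hk⟩ : ∃ k, k = g * n * g⁻¹ := ⟨_, rfl⟩
  have hkM : k ∈ M := hk ▸ M.mul_mem (M.mul_mem hg hn) (M.inv_mem hg)
  have hkv : k.1 = 1 + (kc α u * P * kr α (JB *ᵥ u) + kc α u * Q * kr α (JB *ᵥ s) +
      kc α s * Q' * kr α (JB *ᵥ u) + kc α s * R * kr α (JB *ᵥ s)) := by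
    rw [hk, Units.val_mul, Units.val_mul, hn', tv, one_smul, Matrix.kronecker_add, Matrix.one_kronecker_one,
      ← kc_mul_kr, Matrix.mul_add, Matrix.mul_one, Matrix.add_mul, g.mul_inv, ← Matrix.mul_assoc, hgu, Matrix.mul_assoc,
      hker, hP, hQ, hQ', hR]
    simp only [Matrix.add_mul, Matrix.mul_add, Matrix.mul_assoc]
    abel
  have kv : ∀ v : β → F, k.1 * kc α v = kc α v + (((JB *ᵥ u) ⬝ᵥ v) • (kc α u * P + kc α s * Q') +
      ((JB *ᵥ s) ⬝ᵥ v) • (kc α u * Q + kc α s * R)) := fun v => by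
    rw [hkv, Matrix.add_mul, Matrix.one_mul]
    simp only [Matrix.add_mul, Matrix.mul_assoc, kr_mul_kc, Matrix.mul_smul, Matrix.mul_one, smul_add]
    abel
  -- the commutator with a pair
  obtain ⟨m1, hm1, hm1'⟩ := H.inM_pair (α := α) r3 1
  rw [one_smul] at hm1'
  obtain ⟨x, hx⟩ : ∃ x, x = k * m1 * k⁻¹ * m1 := ⟨_, rfl⟩
  have hxM : x ∈ M := hx ▸ M.mul_mem (M.mul_mem (M.mul_mem hkM hm1) (M.inv_mem hkM)) hm1
  have hky : k.1 * kc α y = kc α y + (kc α u * P + kc α s * Q') := by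
    rw [kv, y1, y2, one_smul, zero_smul, add_zero]
  have hkr : k.1 * kc α r = kc α r := by rw [kv, r1, r2, zero_smul, zero_smul, add_zero, add_zero]
  have a2 := H.adjoint_fix hkM hkr
  have a1 : kr α (JB *ᵥ y) * (k⁻¹).1 = kr α (JB *ᵥ y) + (P * kr α (JB *ᵥ u) + Q * kr α (JB *ᵥ s)) := by
    have hki : (k⁻¹).1 = k.1 := by
      have hkk : k * k = 1 := by
        have hnn : n * n = 1 := Units.ext (by
          rw [Units.val_mul, hn', ← Matrix.mul_kronecker_mul, H.sB.tv_mul_tv, Matrix.one_mul,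
            show (1 : F) + 1 = 0 by linear_combination H.two, tv, zero_smul, Matrix.zero_vecMulVec, add_zero,
            Matrix.one_kronecker_one, Units.val_one])
        rw [hk]
        calc g * n * g⁻¹ * (g * n * g⁻¹) = g * (n * n) * g⁻¹ := by group
          _ = 1 := by rw [hnn]; group
      rw [inv_eq_of_mul_eq_one_right hkk]
    rw [hki, hkv, Matrix.mul_add, Matrix.mul_one]
    simp only [Matrix.mul_add, ← Matrix.mul_assoc, kr_mul_kc, q1, show (JB *ᵥ y) ⬝ᵥ s = 0 by rw [H.sB.swap, y2, neg_zero],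
      one_smul, zero_smul, Matrix.one_mul, Matrix.zero_mul, add_zero]
  obtain ⟨N, hN⟩ : ∃ N : Matrix (α × β) (α × β) F, N = Np JA JB y r 1 := ⟨_, rfl⟩
  rw [← hN] at hm1'
  obtain ⟨X, hX⟩ : ∃ X : Matrix (α × β) (α × β) F, X = (kc α u * P + kc α s * Q') * kr α (JB *ᵥ r) +
      kc α r * (P * kr α (JB *ᵥ u) + Q * kr α (JB *ᵥ s)) := ⟨_, rfl⟩
  have e1 : k.1 * N * (k⁻¹).1 = N + X := by
    rw [hN, Np, H.sA.adj_one, Matrix.mul_one, Matrix.mul_one, Matrix.mul_add, Matrix.add_mul,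
      ← Matrix.mul_assoc, ← Matrix.mul_assoc, hky, hkr, Matrix.mul_assoc, a2, Matrix.mul_assoc, a1, hX]
    simp only [Matrix.add_mul, Matrix.mul_add, Matrix.mul_assoc]
    abel
  have hXN : X * N = kc α r * P * kr α (JB *ᵥ r) := by
    rw [hX, hN, Np, H.sA.adj_one, Matrix.mul_one, Matrix.mul_one]
    simp only [Matrix.add_mul, Matrix.mul_add, Matrix.mul_assoc]
    simp only [← Matrix.mul_assoc (kr α _) (kc α _), kr_mul_kc, r3', H.sB.self, y1, y2, r1, r2, one_smul, zero_smul,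
      Matrix.one_mul, Matrix.zero_mul, Matrix.mul_zero, add_zero, zero_add]
  have hxv : x.1 = 1 + (X + kc α r * P * kr α (JB *ᵥ r)) := by
    have hNN : N * N = 0 := by rw [hN]; exact H.np_sq r3 1 1
    rw [hx, Units.val_mul, Units.val_mul, Units.val_mul, hm1', Matrix.mul_add k.1, Matrix.mul_one, Matrix.add_mul k.1,
      k.mul_inv, e1, Matrix.mul_add, Matrix.mul_one, Matrix.add_mul, Matrix.one_mul, Matrix.add_mul, hNN, hXN, zero_add]
    linear_combination (norm := module) H.two • N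
  have hxr : x.1 * kc α r = kc α r := by
    rw [hxv, hX]
    simp only [Matrix.add_mul, Matrix.one_mul, Matrix.mul_assoc, kr_mul_kc, r1, r2, H.sB.self, zero_smul,
      Matrix.mul_zero, add_zero]
  obtain ⟨p, hp⟩ := hD _ (H.level hxM hr hyr r3' hxr (E := P) (by
    rw [hxv, hX]
    simp only [Matrix.add_mul, Matrix.mul_add, Matrix.one_mul, Matrix.mul_assoc, kr_mul_kc, r3', y1, y2, zero_smul,
      one_smul, Matrix.mul_one, Matrix.mul_zero, add_zero, zero_add]) 1)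
  obtain ⟨q, hq⟩ := hD _ (H.level hxM hr hy'r r4' hxr (E := Q) (by
    rw [hxv, hX]
    simp only [Matrix.add_mul, Matrix.mul_add, Matrix.one_mul, Matrix.mul_assoc, kr_mul_kc, r4', y1', y2', zero_smul,
      one_smul, Matrix.mul_one, Matrix.mul_zero, add_zero, zero_add]) 1)
  rw [one_smul] at hp hq
  -- the last block
  obtain ⟨m2, hm2, hm2'⟩ := H.inM_pair (α := α) r4 1
  rw [one_smul] at hm2'
  obtain ⟨N₂, hN₂⟩ : ∃ N : Matrix (α × β) (α × β) F, N = Np JA JB y' r 1 := ⟨_, rfl⟩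
  rw [← hN₂] at hm2'
  have hky' : k.1 * kc α y' = kc α y' + (kc α u * Q + kc α s * R) := by
    rw [kv, y1', y2', one_smul, zero_smul, zero_add]
  have aR : adj JA R = R := by rw [hR, H.sA.adj_mul, H.sA.adj_adj]
  have hQQ : Q' = q • 1 := by rw [← H.sA.adj_adj Q', aQ, hq, H.sA.adj_smul, H.sA.adj_one]
  have hR' : ∃ t : F, R = t • 1 := by
    obtain ⟨E, hE⟩ : ∃ E, E = R := ⟨_, rfl⟩
    obtain ⟨x2, hx2⟩ : ∃ x2, x2 = k * m2 * k⁻¹ * m2 := ⟨_, rfl⟩
    have hx2M : x2 ∈ M := hx2 ▸ M.mul_mem (M.mul_mem (M.mul_mem hkM hm2) (M.inv_mem hkM)) hm2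
    have a1' : kr α (JB *ᵥ y') * (k⁻¹).1 = kr α (JB *ᵥ y') + (Q' * kr α (JB *ᵥ u) + R * kr α (JB *ᵥ s)) := by
      have hk' := H.adjoint hkM (y := y') (y' := y' + q • u) (w := s) (E := R) (by
        rw [hky', hq, kc_add, kc_smul, Matrix.mul_smul, Matrix.mul_one, add_assoc])
      rw [hk', Matrix.mulVec_add, Matrix.mulVec_smul, kr_add, kr_smul, aR, hQQ, Matrix.smul_mul, Matrix.one_mul,
        add_assoc]
    obtain ⟨X₂, hX₂⟩ : ∃ X : Matrix (α × β) (α × β) F, X = (kc α u * Q + kc α s * R) * kr α (JB *ᵥ r) +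
        kc α r * (Q' * kr α (JB *ᵥ u) + R * kr α (JB *ᵥ s)) := ⟨_, rfl⟩
    have e2 : k.1 * N₂ * (k⁻¹).1 = N₂ + X₂ := by
      rw [hN₂, Np, H.sA.adj_one, Matrix.mul_one, Matrix.mul_one, Matrix.mul_add, Matrix.add_mul,
        ← Matrix.mul_assoc, ← Matrix.mul_assoc, hky', hkr, Matrix.mul_assoc, a2, Matrix.mul_assoc, a1', hX₂]
      simp only [Matrix.add_mul, Matrix.mul_add, Matrix.mul_assoc]
      abel
    have hXN₂ : X₂ * N₂ = kc α r * R * kr α (JB *ᵥ r) := by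
      rw [hX₂, hN₂, Np, H.sA.adj_one, Matrix.mul_one, Matrix.mul_one]
      simp only [Matrix.add_mul, Matrix.mul_add, Matrix.mul_assoc]
      simp only [← Matrix.mul_assoc (kr α _) (kc α _), kr_mul_kc, r4', H.sB.self, y1', y2', r1, r2, one_smul, zero_smul,
        Matrix.one_mul, Matrix.zero_mul, Matrix.mul_zero, add_zero, zero_add]
    have hxv2 : x2.1 = 1 + (X₂ + kc α r * R * kr α (JB *ᵥ r)) := by
      have hNN : N₂ * N₂ = 0 := by rw [hN₂]; exact H.np_sq r4 1 1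
      rw [hx2, Units.val_mul, Units.val_mul, Units.val_mul, hm2', Matrix.mul_add k.1, Matrix.mul_one, Matrix.add_mul k.1,
        k.mul_inv, e2, Matrix.mul_add, Matrix.mul_one, Matrix.add_mul, Matrix.one_mul, Matrix.add_mul, hNN, hXN₂,
        zero_add]
      linear_combination (norm := module) H.two • N₂
    obtain ⟨t, ht⟩ := hD _ (H.level hx2M hr hy'r r4' (by
      rw [hxv2, hX₂]
      simp only [Matrix.add_mul, Matrix.one_mul, Matrix.mul_assoc, kr_mul_kc, r1, r2, H.sB.self, zero_smul,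
        Matrix.mul_zero, add_zero]) (E := R) (by
      rw [hxv2, hX₂]
      simp only [Matrix.add_mul, Matrix.mul_add, Matrix.one_mul, Matrix.mul_assoc, kr_mul_kc, r4', y1', y2', zero_smul,
        one_smul, Matrix.mul_one, Matrix.mul_zero, add_zero, zero_add]) 1)
    rw [one_smul] at ht
    exact ⟨t, ht⟩
  obtain ⟨t, ht⟩ := hR'
  refine ⟨1 + (p • Matrix.vecMulVec u (JB *ᵥ u) + q • Matrix.vecMulVec u (JB *ᵥ s) + q • Matrix.vecMulVec s (JB *ᵥ u) +
    t • Matrix.vecMulVec s (JB *ᵥ s)), ?_⟩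
  rw [← hn', ← Units.val_mul, ← Units.val_mul, ← hk, hkv, hp, hq, hQQ, ht]
  simp only [Matrix.mul_smul, Matrix.smul_mul, Matrix.mul_one, kc_mul_kr, Matrix.kronecker_add,
    Matrix.kronecker_smul, Matrix.one_kronecker_one]

end Hyp

end CfsgLib.Classical.TensorWreathT.Pair
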