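import Cfsg.Agent.Lib.Classical.TensorWreathT.Form
import Cfsg.Agent.Lib.Classical.TensorWreath.ThreeBase
import Cfsg.Agent.Lib.Classical.TensorWreath.Rank

set_option autoImplicit false
set_option linter.unusedSectionVars false

/-!
Characteristic two: a lower bound for the rank next to a product of two roots of a hyperbolic line.
-/

namespace CfsgLib.Classical.TensorWreathT

open Matrix CfsgLib.Classical.TensorWreath
open CfsgLib.Classical.TensorMax (kc kr)
open scoped MatrixGroups Kronecker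

variable {F : Type*} [Field F] [Finite F] {m : ℕ} {α : Type} [Fintype α] [DecidableEq α]

/-- The rank next to a product of two roots of a hyperbolic line. -/
theorem rank_two_plane (h2 : (2 : F) = 0) (hm : 3 ≤ m) {a v φa φv : Fin m → F}
    (haa : φa ⬝ᵥ a = 0) (hvv : φv ⬝ᵥ v = 0) (hav : φa ⬝ᵥ v = 1) (hva : φv ⬝ᵥ a = 1) (B : Matrix α α F) :
    2 * Fintype.card α + (B - 1).rank * (m - 3) ≤
      (B ⊗ₖ ((1 + Matrix.vecMulVec a φa) * (1 + Matrix.vecMulVec v φv)) - 1).rank := by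
  obtain ⟨A, hA⟩ : ∃ A, A = (1 + Matrix.vecMulVec a φa) * (1 + Matrix.vecMulVec v φv) := ⟨_, rfl⟩
  rw [← hA]
  obtain ⟨P, hP⟩ : ∃ P, P = Matrix.vecMulVec a φv + Matrix.vecMulVec v φa := ⟨_, rfl⟩
  have hPP : P * P = P := by
    rw [hP]
    simp [mul_add, add_mul, Matrix.vecMulVec_mul_vecMulVec, haa, hvv, hav, hva]
  have p2 : 2 ≤ P.rank := by
    have := le_rank_of_sandwich (X := P) (L := Matrix.of ![φv, φa]) (R := (Matrix.of ![a, v])ᵀ) (by
      have e : ∀ (x : Fin m → F) (y : Fin m → F), ∀ i j, (Matrix.of ![x, y]) i j = ![x, y] i j := fun _ _ _ _ => rfl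
      ext i j
      have hPa : P *ᵥ a = a := by rw [hP]; simp [Matrix.add_mulVec, Matrix.vecMulVec_mulVec, haa, hva]
      have hPv : P *ᵥ v = v := by rw [hP]; simp [Matrix.add_mulVec, Matrix.vecMulVec_mulVec, hvv, hav]
      rw [Matrix.mul_assoc, Matrix.mul_apply_eq_vecMul]
      show (![φv, φa] i) ⬝ᵥ (fun k => (P * (Matrix.of ![a, v])ᵀ) k j) = _
      rw [show (fun k => (P * (Matrix.of ![a, v])ᵀ) k j) = P *ᵥ (![a, v] j) from rfl]
      fin_cases i <;> fin_cases j <;> simp [hPa, hPv, haa, hvv, hav, hva])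
    simpa using this
  have p3 : m - 2 ≤ (1 - P).rank := by
    have h1 : (1 : Matrix (Fin m) (Fin m) F).rank ≤ (1 - P).rank + P.rank := by
      conv_lhs => rw [← sub_add_cancel 1 P]
      exact TensorWreath.rank_add_le' _ _
    have h3 : P.rank ≤ 2 := by
      rw [hP]
      exact (TensorWreath.rank_add_le' _ _).trans (Nat.add_le_add (Matrix.rank_vecMulVec_le _ _) (Matrix.rank_vecMulVec_le _ _))
    rw [Matrix.rank_one, Fintype.card_fin] at h1
    omega
  obtain ⟨X0, hX0⟩ : ∃ X0, X0 = (B - 1) ⊗ₖ (1 - P) + (1 : Matrix α α F) ⊗ₖ P := ⟨_, rfl⟩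
  have r0 : (B - 1).rank * (m - 2) + Fintype.card α * 2 ≤ X0.rank := by
    have z0 : ∀ S : Matrix α α F, S ⊗ₖ (0 : Matrix (Fin m) (Fin m) F) = 0 := fun S => by ext ⟨i, j⟩ ⟨k, l⟩; simp
    have e1 : X0 * ((1 : Matrix α α F) ⊗ₖ (1 - P)) = (B - 1) ⊗ₖ (1 - P) := by
      rw [hX0, Matrix.add_mul, ← Matrix.mul_kronecker_mul, ← Matrix.mul_kronecker_mul, Matrix.mul_one, Matrix.mul_one,
        sub_mul, one_mul, mul_sub P, mul_one, hPP, sub_self, sub_zero, z0, add_zero]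
    have e2 : ((1 : Matrix α α F) ⊗ₖ P) * X0 = (1 : Matrix α α F) ⊗ₖ P := by
      rw [hX0, Matrix.mul_add, ← Matrix.mul_kronecker_mul, ← Matrix.mul_kronecker_mul, Matrix.one_mul, Matrix.one_mul,
        mul_sub P, mul_one, hPP, sub_self, z0, zero_add]
    have h := rank_add_rank_le (X := X0) (Q := (1 : Matrix α α F) ⊗ₖ (1 - P)) (L := (1 : Matrix α α F) ⊗ₖ P) (by
      rw [e2, ← Matrix.mul_kronecker_mul, show P * (1 - P) = 0 by rw [mul_sub, mul_one, hPP, sub_self], z0])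
    rw [e1, e2] at h
    refine le_trans (add_le_add ((Nat.mul_le_mul_left _ p3).trans (rank_mul_rank_le _ _))
      (le_trans ?_ (rank_mul_rank_le _ _))) h
    rw [Matrix.rank_one]
    exact Nat.mul_le_mul_left _ p2
  obtain ⟨L, hL⟩ : ∃ L, L = (B - 1) * (kr α (φa) : Matrix α (α × Fin m) F) := ⟨_, rfl⟩
  obtain ⟨Y, hY⟩ : ∃ Y, Y = B ⊗ₖ A - 1 := ⟨_, rfl⟩
  rw [← hY]
  have hker : LinearMap.ker Y.mulVecLin ⊓ LinearMap.ker L.mulVecLin ≤ LinearMap.ker X0.mulVecLin := by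
    intro y hy
    simp only [Submodule.mem_inf, LinearMap.mem_ker, Matrix.mulVecLin_apply] at hy ⊢
    obtain ⟨hy1, hy2⟩ := hy
    rw [hY, Matrix.sub_mulVec, Matrix.one_mulVec, sub_eq_zero] at hy1
    obtain ⟨qa, hqa⟩ : ∃ qa, qa = (kr α (φa) : Matrix α (α × Fin m) F) *ᵥ y := ⟨_, rfl⟩
    obtain ⟨qv, hqv⟩ : ∃ qv, qv = (kr α (φv) : Matrix α (α × Fin m) F) *ᵥ y := ⟨_, rfl⟩
    have fa : φa ᵥ* A = φa + φv := by
      rw [hA]
      simp [mul_add, add_mul, Matrix.vecMul_add, Matrix.vecMulVec_mul_vecMulVec, Matrix.vecMul_vecMulVec, haa, hav]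
    have fv : φv ᵥ* A = φa := by
      rw [hA]
      simp [mul_add, add_mul, Matrix.vecMul_add, Matrix.vecMulVec_mul_vecMulVec, Matrix.vecMul_vecMulVec, hvv, hav,
        hva]
      rw [add_comm (φv), add_assoc, char_two_add_self h2, add_zero]
    have e1 : B *ᵥ (qa + qv) = qa := by
      conv_rhs => rw [hqa, ← hy1, Matrix.mulVec_mulVec, TensorMax.kr_mul_kron, fa, ← Matrix.mulVec_mulVec]
      rw [hqa, hqv, ← Matrix.add_mulVec, TensorMax.kr_add]
    have e2 : B *ᵥ qa = qv := by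
      conv_rhs => rw [hqv, ← hy1, Matrix.mulVec_mulVec, TensorMax.kr_mul_kron, fv, ← Matrix.mulVec_mulVec, ← hqa]
    rw [hL, ← Matrix.mulVec_mulVec, ← hqa, Matrix.sub_mulVec, Matrix.one_mulVec, sub_eq_zero, e2] at hy2
    have qa0 : qa = 0 := by
      rw [← e1, hy2, char_two_add_self h2, Matrix.mulVec_zero]
    have qv0 : qv = 0 := hy2.trans qa0
    rw [hqa] at qa0
    rw [hqv] at qv0
    have kill : ∀ (x : Fin m → F) (φ : Fin m → F), (kr α φ : Matrix α (α × Fin m) F) *ᵥ y = 0 →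
        ((1 : Matrix α α F) ⊗ₖ Matrix.vecMulVec x φ) *ᵥ y = 0 := fun x φ h => by
      rw [← TensorMax.kc_mul_kr, ← Matrix.mulVec_mulVec, h, Matrix.mulVec_zero]
    have hP0 : ((1 : Matrix α α F) ⊗ₖ P) *ᵥ y = 0 := by
      rw [hP, Matrix.kronecker_add, Matrix.add_mulVec, kill _ _ qv0, kill _ _ qa0, add_zero]
    have hA1 : ((1 : Matrix α α F) ⊗ₖ A) *ᵥ y = y := by
      rw [hA]
      simp only [mul_add, add_mul, mul_one, one_mul, Matrix.vecMulVec_mul_vecMulVec, hav, one_smul,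
        Matrix.kronecker_add, Matrix.add_mulVec, kill _ _ qa0, kill _ _ qv0, add_zero, Matrix.one_kronecker_one,
        Matrix.one_mulVec]
    have hB1 : (B ⊗ₖ (1 : Matrix (Fin m) (Fin m) F)) *ᵥ y = y := by
      conv_lhs => rw [← hA1]
      rw [Matrix.mulVec_mulVec, ← Matrix.mul_kronecker_mul, Matrix.mul_one, Matrix.one_mul, hy1]
    have ksub : (B - 1) ⊗ₖ (1 : Matrix (Fin m) (Fin m) F) = B ⊗ₖ (1 : Matrix (Fin m) (Fin m) F) - 1 := by
      rw [sub_eq_add_neg, Matrix.add_kronecker, ← neg_one_smul F (1 : Matrix α α F), Matrix.smul_kronecker,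
        Matrix.one_kronecker_one, neg_one_smul, ← sub_eq_add_neg]
    have hd : (B - 1) ⊗ₖ (1 - P) = (B ⊗ₖ (1 : Matrix (Fin m) (Fin m) F) - 1) * (1 - (1 : Matrix α α F) ⊗ₖ P) := by
      rw [← ksub, Matrix.mul_sub, Matrix.mul_one, ← Matrix.mul_kronecker_mul, Matrix.mul_one, Matrix.one_mul]
      ext ⟨p, k⟩ ⟨p', k'⟩
      simp only [Matrix.sub_apply, Matrix.kroneckerMap_apply]
      ring
    rw [hX0, Matrix.add_mulVec, hP0, add_zero, hd, ← Matrix.mulVec_mulVec, Matrix.sub_mulVec _ _ y, Matrix.one_mulVec,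
      hP0, sub_zero, Matrix.sub_mulVec, hB1, Matrix.one_mulVec, sub_self]
  have d1 := Submodule.finrank_sup_add_finrank_inf_eq (LinearMap.ker Y.mulVecLin) (LinearMap.ker L.mulVecLin)
  have d2 := Submodule.finrank_le (LinearMap.ker Y.mulVecLin ⊔ LinearMap.ker L.mulVecLin)
  have d3 := Submodule.finrank_mono hker
  have d4 := LinearMap.finrank_range_add_finrank_ker Y.mulVecLin
  have d5 := LinearMap.finrank_range_add_finrank_ker L.mulVecLin
  have d6 := LinearMap.finrank_range_add_finrank_ker X0.mulVecLin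
  have d7 : L.rank ≤ (B - 1).rank := hL ▸ Matrix.rank_mul_le_left _ _
  rw [Module.finrank_pi] at d2 d4 d5 d6
  simp only [Matrix.rank] at r0 d7 ⊢
  obtain ⟨m', rfl⟩ : ∃ m', m = m' + 3 := ⟨m - 3, by omega⟩
  simp only [show m' + 3 - 2 = m' + 1 by omega, Nat.add_sub_cancel, mul_add, mul_one] at r0 ⊢
  omega

end CfsgLib.Classical.TensorWreathT
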