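import Cfsg.Agent.Lib.Classical.TensorWreathT.Roots
import Cfsg.Agent.Lib.Classical.TensorWreathT.RankPlane

set_option autoImplicit false
set_option linter.unusedSectionVars false

/-!
Characteristic two: an element commuting with a product of two commuting roots is monomial.
-/

namespace CfsgLib.Classical.TensorWreathT

open Matrix CfsgLib.Classical.TensorWreath
open CfsgLib.Classical.TensorSymp (adj Sp AForm tv)
open CfsgLib.Classical.TensorMax (kc kr)
open CfsgLib.Classical.TensorWreathS (JJ nu SmallAll tv_eq nu_sq nu_ne_zero nu_smul nu_mul nu_mulVec)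
open CfsgLib.Classical.TensorWreathU (two back back_two back_inj back_kron back_mul back_add back_one component_move
  embM_comm_pure mem_centralizer_of_closure)
open scoped MatrixGroups Kronecker

variable {F : Type*} [Field F] [Finite F] {τ : Type} [Fintype τ] [DecidableEq τ] {m : ℕ}
variable {J : Matrix (Fin m) (Fin m) F} {M : Subgroup (GL (Ix τ m) F)}

/-- Commuting roots of one factor have orthogonal vectors. -/
theorem orth_of_comm (hJ : AForm J) [NeZero m] {i : τ} {u s : Fin m → F} {x r : GL (Ix τ m) F}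
    (hx : IsRootAt J i u x) (hr : IsRootAt J i s r) (hxr : x * r = r * x) : (J *ᵥ u) ⬝ᵥ s = 0 := by
  rw [commute_val_iff hr.2, hx.2, add_mul, mul_add, one_mul, mul_one, add_right_inj, embM_mul, embM_mul] at hxr
  have h := congrArg (· *ᵥ u) (embM_injective i hxr)
  simp only [← Matrix.mulVec_mulVec, nu_mulVec, hJ.self, zero_smul, Matrix.mulVec_zero, Matrix.mulVec_smul, smul_smul]
    at h
  rw [hJ.swap s, neg_mul, neg_smul, neg_eq_zero, smul_eq_zero, or_iff_left hx.1, mul_self_eq_zero] at h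
  exact h

/-- The product of two roots at different factors. -/
theorem pair_val {i j : τ} (hij : i ≠ j) {u s : Fin m → F} {x r : GL (Ix τ m) F}
    (hx : IsRootAt J i u x) (hr : IsRootAt J j s r) : (x * r).1 =
      pureM (fun l => if l = i then 1 + nu J u else if l = j then 1 + nu J s else 1) := by
  rw [Units.val_mul, hx.2, hr.2, ← embM_one (F := F) (m := m) i, ← embM_add, embM_one, ← embM_one (F := F) (m := m) j,
    ← embM_add, embM, embM, pureM_mul]
  refine congrArg pureM (funext fun l => ?_)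
  by_cases hli : l = i
  · subst hli; simp [hij]
  by_cases hlj : l = j
  · subst hlj; simp [hli]
  simp [hli, hlj]

theorem root_comm_pure {i : τ} {a : Fin m → F} {y z : GL (Ix τ m) F} {f : τ → Matrix (Fin m) (Fin m) F}
    (hy : IsRootAt J i a y) (hz : z.1 = pureM f) (h : f i * nu J a = nu J a * f i) : y * z = z * y := by
  refine Units.ext ?_
  rw [Units.val_mul, Units.val_mul, hy.2, hz, add_mul, mul_add, one_mul, mul_one,
    embM_comm_pure (b := nu J a) h]

namespace Hyp

variable (H : Hyp J M) [Nontrivial τ] (hS : SmallAll J M) (hlow : Low J τ)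
include H hS hlow

/-- An element commuting with a sum of two orthogonal roots of one factor. -/
theorem mono_same {g : GL (Ix τ m) F} (hg : g ∈ M) {i : τ} {u s : Fin m → F} (hu : u ≠ 0) (hs : ∀ c : F, s ≠ c • u)
    (hus : (J *ᵥ u) ⬝ᵥ s = 0)
    (hc : g.1 * embM i (nu J u + nu J s) = embM i (nu J u + nu J s) * g.1) : Mono g.1 := by
  haveI := H.neZero
  have hP := H.pair i
  have hb : ∀ v : Fin m → F,
      back i (kc (Ix (Rest i) m) v * kr (Ix (Rest i) m) (J *ᵥ v)) = embM i (nu J v) := fun v => by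
    rw [TensorMax.kc_mul_kr, back_kron, embM_eq_ins, nu]
  obtain ⟨T, hT⟩ := hP.conj_root_tens (H.levels_scalar hS i) (g := TensorWreathU.two i g) ⟨g, hg, rfl⟩ hu hs hus
    (back_inj i (by rw [back_mul, back_mul, back_add, hb, hb, back_two, ← embM_add, hc]))
  obtain ⟨x, hxM, hx⟩ := H.exists_root i hu
  refine H.mono_of_root_image hS hlow hg hxM ⟨i, u, hx⟩ ?_
  refine H.root_of_mono ((rootConj_of_root ⟨i, u, hx⟩ hxM).conj hg) ?_
  have e := congrArg (back i) hT
  rw [back_mul, back_mul, back_two, ← map_inv, back_two, back_kron, back_kron, ← embM_eq_ins, ← embM_eq_ins,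
    tv_eq, one_smul] at e
  rw [Units.val_mul, Units.val_mul, hx.2, ← embM_one (F := F) (m := m) i, ← embM_add, e]
  exact mono_pure _

/-- An element commuting with the product of two commuting roots of one factor. -/
theorem mono_two_same {g x r : GL (Ix τ m) F} (hg : g ∈ M) {i : τ} {u s : Fin m → F} (hx : IsRootAt J i u x)
    (hr : IsRootAt J i s r) (hxr : x * r = r * x) (h1 : x * r ≠ 1) (hc : g * (x * r) = x * r * g) : Mono g.1 := by
  haveI := H.neZero
  have hus := orth_of_comm H.hJ hx hr hxr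
  have hval : (x * r).1 = 1 + embM i (nu J u + nu J s) := by
    rw [Units.val_mul, hx.2, hr.2, mul_add, mul_one, add_mul, one_mul, embM_mul, nu_mul, hus, zero_smul, embM_zero,
      add_zero, embM_add, add_assoc]
  have hcv := (commute_val_iff hval).1 hc
  by_cases hpar : ∃ c : F, s = c • u
  · obtain ⟨c, rfl⟩ := hpar
    have e : nu J u + nu J (c • u) = nu J ((1 + c) • u) := by
      rw [nu_smul, nu_smul]
      linear_combination (norm := module) -(c • (H.two • nu J u))
    rw [e] at hcv hval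
    refine H.mono_of_commute hS hlow hg (u := (1 + c) • u) (smul_ne_zero (fun e0 => h1 (Units.ext ?_)) hx.1) hcv
    rw [hval, e0, zero_smul, nu, Matrix.zero_vecMulVec, embM_zero, add_zero, Units.val_one]
  · push Not at hpar
    exact H.mono_same hS hlow hg hx.1 hpar hus hcv

/-- An element commuting with the product of two commuting roots. -/
theorem mono_two {h x r : GL (Ix τ m) F} (hh : h ∈ M) (hxM : x ∈ M) (hx : IsRoot J x) (hr : IsRoot J r)
    (hxr : x * r = r * x) (h1 : x * r ≠ 1) (hc : h * (x * r) = x * r * h) : Mono h.1 := by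
  haveI := H.neZero
  obtain ⟨i, u, hx⟩ := hx
  obtain ⟨j, s, hr⟩ := hr
  by_cases hij : i = j
  · subst hij
    exact H.mono_two_same hS hlow hh hx hr hxr h1 hc
  have h3 : 3 ≤ m := by have := H.six; omega
  have hJ := H.hJ
  by_contra hnm
  obtain ⟨k, hk⟩ : ∃ k, k = h * x * h⁻¹ := ⟨_, rfl⟩
  have hkR : RootConj J M k := hk ▸ (rootConj_of_root ⟨i, u, hx⟩ hxM).conj hh
  have hnon : ¬ IsRoot J k := fun hr' => hnm (H.mono_of_root_image hS hlow hh hxM ⟨i, u, hx⟩ (hk ▸ hr'))
  have hkm : ¬ Mono k.1 := fun e => hnon (H.root_of_mono hkR e)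
  obtain ⟨z, hz⟩ : ∃ z, z = x * r := ⟨_, rfl⟩
  rw [← hz] at hc
  have hkz : k * z = z * k := by
    rw [hk, mul_assoc, (Commute.inv_left (hc : Commute h z)).eq, ← mul_assoc, mul_assoc h, hz,
      show x * (x * r) = x * r * x by rw [mul_assoc, hxr], ← hz, ← mul_assoc, hc, mul_assoc z, mul_assoc z]
  obtain ⟨f, hf⟩ : ∃ f : τ → Matrix (Fin m) (Fin m) F,
      f = fun l => if l = i then 1 + nu J u else if l = j then 1 + nu J s else 1 := ⟨_, rfl⟩
  have hzv : z.1 = pureM f := by rw [hz, hf, pair_val hij hx hr]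
  have hff : ∀ l, f l * f l = 1 := fun l => by
    simp only [hf]
    split_ifs <;> first | exact root_sq_one hJ H.two _ | exact one_mul _
  have hfi : f i = 1 + nu J u := by rw [hf]; simp
  -- the partner of a root
  have partner : ∀ (a : Fin m → F) (y : GL (Ix τ m) F), (∀ c : F, a ≠ c • u) → (J *ᵥ u) ⬝ᵥ a = 0 → y ∈ M →
      IsRootAt J i a y → ∃ (o : τ) (t : Fin m → F) (q : GL (Ix τ m) F), o ≠ i ∧ IsRootAt J o t q ∧
        y * q * k = k * (y * q) ∧ RootConj J M (y * q * k) := by
    intro a y ha hua hyM hy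
    have hyz : y * z = z * y := root_comm_pure hy hzv (by
      have hau : (J *ᵥ a) ⬝ᵥ u = 0 := by rw [hJ.swap, hua, neg_zero]
      rw [hfi, add_mul, mul_add, one_mul, mul_one, nu_mul, nu_mul, hua, hau, zero_smul, zero_smul])
    have hyR := rootConj_of_root ⟨i, a, hy⟩ hyM
    rcases dihedral_cases (H.conj_sq hkR) (H.conj_sq hyR) with ⟨d, hd, hdy⟩ | ⟨w, hw, -, hw1, hwk, hwy, hcases⟩
    · exfalso
      obtain ⟨e, he⟩ : ∃ e, e = d * h := ⟨_, rfl⟩
      have heM : e ∈ M := he ▸ M.mul_mem (closure_pair_le hkR.mem hyM hd) hh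
      have hez : e * z = z * e := by
        rw [he, mul_assoc, hc, ← mul_assoc, mem_centralizer_of_closure hkz hyz hd, mul_assoc]
      have hexy : e * x * e⁻¹ = y := by rw [hdy, he, hk]; group
      have hem : Mono e.1 := H.mono_of_root_image hS hlow heM hxM ⟨i, u, hx⟩ (hexy ▸ ⟨i, a, hy⟩)
      have key := (component_move h3 H.two hem hff (by rw [← hzv, ← Units.val_mul, hez, Units.val_mul])
        (ne_scalar_of_sq_zero (nu_ne_zero hJ hx.1) (nu_sq hJ u)) (i := i) (l := i) (b := nu J a) (by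
          have := congrArg Units.val (mul_inv_eq_iff_eq_mul.1 hexy)
          rwa [Units.val_mul, Units.val_mul, hx.2, hy.2, mul_add, mul_one, add_mul, one_mul, add_right_inj] at this)).1
        hfi
      rw [hfi, add_right_inj] at key
      obtain ⟨c, hc'⟩ := line_of_nu_eq hJ hy.1 key
      exact ha c hc'
    have hcl := closure_pair_le hkR.mem hyM
    have hconj : RootConj J M (w * k) ∧ RootConj J M (w * y) := by
      rcases hcases with ⟨⟨c, hc, e1⟩, ⟨c', hc', e2⟩⟩ | ⟨⟨c, hc, e1⟩, ⟨c', hc', e2⟩⟩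
      · exact ⟨e1 ▸ hkR.conj (hcl hc), e2 ▸ hyR.conj (hcl hc')⟩
      · exact ⟨e1 ▸ hyR.conj (hcl hc), e2 ▸ hkR.conj (hcl hc')⟩
    obtain ⟨q, hq⟩ : ∃ q, q = w * y := ⟨_, rfl⟩
    have hy2 := H.conj_sq hyR
    have hqy : q * y = y * q := by rw [hq, mul_assoc, hy2, mul_one, ← mul_assoc, ← hwy, mul_assoc, hy2, mul_one]
    obtain ⟨o, t, hqo⟩ := H.root_of_commute hS hlow (hq ▸ hconj.2) ⟨i, a, hy⟩ hqy
    have hyq : y * q = w := by rw [← hqy, hq, mul_assoc, hy2, mul_one]
    refine ⟨o, t, q, fun hoi => ?_, hqo, by rw [hyq, hwk], by rw [hyq]; exact hconj.1⟩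
    subst hoi
    exact hkm (H.mono_two_same hS hlow hkR.mem hy hqo hqy.symm (by rw [hyq]; exact hw1) (by rw [hyq, hwk]))
  -- partners of a hyperbolic pair are equal
  have same : ∀ (a v : Fin m → F) (ya yv qa qv : GL (Ix τ m) F) (oa ov : τ) (ta tv' : Fin m → F),
      (J *ᵥ a) ⬝ᵥ v = 1 → IsRootAt J i a ya → IsRootAt J i v yv → oa ≠ i → ov ≠ i → IsRootAt J oa ta qa →
      IsRootAt J ov tv' qv → yv * qv * k = k * (yv * qv) → RootConj J M (ya * qa * k) →
      RootConj J M (yv * qv * k) → qv = qa := by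
    intro a v ya yv qa qv oa ov ta tv' hav hya hyv hoa hov hqa hqv hcv hRa hRv
    obtain ⟨R, hR⟩ : ∃ R, R = Fintype.card (Ix (Rest i) m) := ⟨_, rfl⟩
    have ha' := hR ▸ H.rank_le hRa i
    have hv' := hR ▸ H.rank_le hRv i
    obtain ⟨P, hP⟩ : ∃ P, P = ya * qa * k := ⟨_, rfl⟩
    obtain ⟨P', hP'⟩ : ∃ P', P' = yv * qv * k := ⟨_, rfl⟩
    rw [← hP] at ha'
    rw [← hP'] at hv'
    have hPP : P * P' = ya * yv * (qa * qv) := by
      have hc' : qa * yv = yv * qa := by
        rw [commute_val_iff hyv.2, hqa.2, add_mul, mul_add, one_mul, mul_one, embM_comm hoa]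
      have hk2 := H.conj_sq hkR
      calc P * P' = ya * qa * (k * (yv * qv)) * k := by rw [hP, hP']; group
        _ = ya * qa * (yv * qv) * (k * k) := by rw [← hcv]; group
        _ = ya * (qa * yv) * qv := by rw [hk2]; group
        _ = _ := by rw [hc']; group
    have hle : ((P * P').1 - 1).rank ≤ 2 * R := by
      rw [Units.val_mul, show P.1 * P'.1 - 1 = (P.1 - 1) * P'.1 + (P'.1 - 1) by noncomm_ring, two_mul]
      exact (rank_add_le' _ _).trans (add_le_add ((Matrix.rank_mul_le_left _ _).trans ha') hv')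
    obtain ⟨B, hB⟩ : ∃ B : Matrix (Ix (Rest i) m) (Ix (Rest i) m) F,
        B = (1 + embM ⟨oa, hoa⟩ (nu J ta)) * (1 + embM ⟨ov, hov⟩ (nu J tv')) := ⟨_, rfl⟩
    have hBv : (qa * qv).1 = ins i B 1 := by
      rw [Units.val_mul, hqa.2, hqv.2, hB, ← Matrix.one_mul (1 : Matrix (Fin m) (Fin m) F), ← ins_mul, ins_add_left,
        ins_add_left, ins_one_one, ins_embM, ins_embM]
    have hval : (P * P').1 =
        back i (B ⊗ₖ ((1 + Matrix.vecMulVec a (J *ᵥ a)) * (1 + Matrix.vecMulVec v (J *ᵥ v)))) := by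
      rw [hPP, Units.val_mul, hBv, Units.val_mul, hya.2, hyv.2, back_kron, ← embM_one (F := F) (m := m) i, ← embM_add,
        ← embM_add, embM_mul, embM_eq_ins, ins_mul, Matrix.one_mul, Matrix.mul_one]
      rfl
    have hlow2 := rank_two_plane (α := Ix (Rest i) m) H.two h3 (hJ.self a) (hJ.self v) hav
      (by rw [hJ.swap, hav, neg_two H.two]) B
    rw [hval, ← back_one (m := m) (F := F) i, ← back_sub, TensorWreathU.back, Matrix.rank_submatrix] at hle
    rw [← hR] at hlow2
    have hB1 : B = 1 := by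
      have h0 : (B - 1).rank * (m - 3) ≤ 0 := by omega
      have hr0 : (B - 1).rank = 0 := by
        rcases Nat.mul_eq_zero.1 (Nat.le_zero.1 h0) with e | e
        · exact e
        · have := H.six; omega
      by_contra hne
      have := rank_pos (sub_ne_zero.2 hne)
      omega
    have h11 : qa * qv = 1 := Units.ext (by rw [hBv, hB1, ins_one_one, Units.val_one])
    calc qv = qa * qa * qv := by rw [H.root_sq ⟨oa, ta, hqa⟩, one_mul]
      _ = qa := by rw [mul_assoc, h11, mul_one]
  obtain ⟨a, ha, hua⟩ := exists_indep_orth hJ (by rw [Fintype.card_fin]; exact h3) u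
  obtain ⟨v, v1, v2⟩ := hJ.exists_perp_ne hx.1 ha 0 1
  have hv : ∀ c : F, v ≠ c • u := fun c e => by
    rw [e, dotProduct_smul, hJ.swap, hua, neg_zero, smul_zero] at v2
    exact zero_ne_one v2
  obtain ⟨b, hb⟩ : ∃ b, b = a + u := ⟨_, rfl⟩
  have hbu : ∀ c : F, b ≠ c • u := fun c e => ha (c - 1) (by rw [sub_smul, one_smul, ← e, hb, add_sub_cancel_right])
  have hub : (J *ᵥ u) ⬝ᵥ b = 0 := by rw [hb, dotProduct_add, hua, hJ.self, add_zero]
  have hbv : (J *ᵥ b) ⬝ᵥ v = 1 := by rw [hb, Matrix.mulVec_add, add_dotProduct, v2, v1, add_zero]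
  have hab : (J *ᵥ a) ⬝ᵥ b = 0 := by rw [hb, dotProduct_add, hJ.self, hJ.swap, hua, neg_zero, add_zero]
  have hba : ∀ c : F, b ≠ c • a := fun c e => by
    rw [hb] at e
    by_cases hc1 : c = 1
    · rw [hc1, one_smul, add_eq_left] at e
      exact hx.1 e
    · have hu' : u = (c - 1) • a := by rw [sub_smul, one_smul, ← e, add_sub_cancel_left]
      exact ha (c - 1)⁻¹ (by rw [hu', smul_smul, inv_mul_cancel₀ (sub_ne_zero.2 hc1), one_smul])
  obtain ⟨ya, hyaM, hya⟩ := H.exists_root i (u := a) fun e => ha 0 (by rw [e, zero_smul])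
  obtain ⟨yv, hyvM, hyv⟩ := H.exists_root i (u := v) fun e => hv 0 (by rw [e, zero_smul])
  obtain ⟨yb, hybM, hyb⟩ := H.exists_root i (u := b) fun e => hbu 0 (by rw [e, zero_smul])
  obtain ⟨oa, ta, qa, hoa, hqa, hca, hRa⟩ := partner a ya ha hua hyaM hya
  obtain ⟨ov, tv', qv, hov, hqv, hcv, hRv⟩ := partner v yv hv v1 hyvM hyv
  obtain ⟨ob, tb, qb, hob, hqb, hcb, hRb⟩ := partner b yb hbu hub hybM hyb
  have e1 := same a v ya yv qa qv oa ov ta tv' v2 hya hyv hoa hov hqa hqv hcv hRa hRv
  have e2 := same b v yb yv qb qv ob ov tb tv' hbv hyb hyv hob hov hqb hqv hcv hRb hRv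
  obtain ⟨q, hq⟩ : ∃ q, q = qa := ⟨_, rfl⟩
  have hqb' : qb = q := by rw [hq, ← e1, e2]
  rw [← hq] at hca hqa
  rw [hqb'] at hcb
  have hqyb : q * yb = yb * q := by
    rw [commute_val_iff hyb.2, hqa.2, add_mul, mul_add, one_mul, mul_one, embM_comm hoa]
  have hprod : ya * q * (yb * q) = ya * yb := by
    calc ya * q * (yb * q) = ya * (q * yb) * q := by group
      _ = ya * yb * (q * q) := by rw [hqyb]; group
      _ = _ := by rw [H.root_sq ⟨oa, ta, hqa⟩, mul_one]
  have hyab : ya * yb = yb * ya := by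
    rw [commute_val_iff hyb.2, hya.2, add_mul, mul_add, one_mul, mul_one, embM_mul, embM_mul, nu_mul, nu_mul, hab,
      hJ.swap b, hab, neg_zero, zero_smul, zero_smul]
  refine hkm (H.mono_two_same hS hlow hkR.mem hya hyb hyab (fun e => ?_) ?_)
  · have h4 := congrArg Units.val e
    rw [Units.val_mul, hya.2, hyb.2, mul_add, mul_one, add_mul, one_mul, embM_mul, nu_mul, hab, zero_smul, embM_zero,
      add_zero, Units.val_one, add_assoc, add_eq_left, ← embM_add, ← embM_zero (F := F) (m := m) i] at h4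
    exact nu_add_ne_zero hJ hya.1 hba (embM_injective i h4)
  · calc k * (ya * yb) = k * (ya * q) * (yb * q) := by rw [← hprod]; group
      _ = ya * q * (k * (yb * q)) := by rw [← hca]; group
      _ = ya * q * (yb * q) * k := by rw [← hcb]; group
      _ = ya * yb * k := by rw [hprod]

end Hyp

end CfsgLib.Classical.TensorWreathT
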