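import Cfsg.Agent.Lib.Classical.TensorWreathT.Form
import Cfsg.Agent.Lib.Classical.TensorWreathS.AllMono
import Cfsg.Agent.Lib.Classical.TensorWreath.Classify
import Cfsg.Agent.Lib.Classical.TensorWreathU.Pair

set_option autoImplicit false
set_option linter.unusedSectionVars false

/-!
Characteristic two: roots, their conjugates, and pure involutions.
-/

namespace CfsgLib.Classical.TensorWreathT

open Matrix CfsgLib.Classical.TensorWreath
open CfsgLib.Classical.TensorSymp (adj Sp AForm tv)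
open CfsgLib.Classical.TensorWreathS (JJ nu SmallAll tv_eq nu_sq nu_ne_zero nu_smul nu_mul nu_mulVec sp_two
  mono_of_images)
open CfsgLib.Classical.TensorWreathU (two back_two back_inj back_kron)
open scoped MatrixGroups Kronecker

variable {F : Type*} [Field F] [Finite F] {τ : Type} [Fintype τ] [DecidableEq τ] {m : ℕ}

/-- The root at the factor `i` of a vector. -/
def IsRootAt (J : Matrix (Fin m) (Fin m) F) (i : τ) (u : Fin m → F) (x : GL (Ix τ m) F) : Prop :=
  u ≠ 0 ∧ x.1 = 1 + embM i (nu J u)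

/-- A root. -/
def IsRoot (J : Matrix (Fin m) (Fin m) F) (x : GL (Ix τ m) F) : Prop := ∃ i u, IsRootAt J i u x

/-- A conjugate of a root. -/
def RootConj (J : Matrix (Fin m) (Fin m) F) (M : Subgroup (GL (Ix τ m) F)) (k : GL (Ix τ m) F) : Prop :=
  ∃ g ∈ M, ∃ x ∈ M, IsRoot J x ∧ k = g * x * g⁻¹

variable {J : Matrix (Fin m) (Fin m) F} {M : Subgroup (GL (Ix τ m) F)}

theorem IsRootAt.mono {i : τ} {u : Fin m → F} {x : GL (Ix τ m) F} (hx : IsRootAt J i u x) : Mono x.1 := by
  rw [hx.2, ← embM_one (F := F) (m := m) i, ← embM_add]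
  exact mono_pure _

theorem IsRoot.mono {x : GL (Ix τ m) F} (hx : IsRoot J x) : Mono x.1 := by
  obtain ⟨i, u, hx⟩ := hx
  exact hx.mono

theorem RootConj.mem {k : GL (Ix τ m) F} (hk : RootConj J M k) : k ∈ M := by
  obtain ⟨g, hg, x, hx, -, rfl⟩ := hk
  exact M.mul_mem (M.mul_mem hg hx) (M.inv_mem hg)

theorem RootConj.conj {k c : GL (Ix τ m) F} (hk : RootConj J M k) (hc : c ∈ M) :
    RootConj J M (c * k * c⁻¹) := by
  obtain ⟨g, hg, x, hx, hr, rfl⟩ := hk
  exact ⟨c * g, M.mul_mem hc hg, x, hx, hr, by group⟩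

theorem rootConj_of_root {x : GL (Ix τ m) F} (hx : IsRoot J x) (hM : x ∈ M) : RootConj J M x :=
  ⟨1, M.one_mem, x, hM, hx, by rw [one_mul, inv_one, mul_one]⟩

/-- Two pure involutions are equal only factor by factor. -/
theorem pure_inj (hm : 3 ≤ m) (h2 : (2 : F) = 0) {f g : τ → Matrix (Fin m) (Fin m) F} (hf : ∀ j, f j * f j = 1)
    (hg : ∀ j, g j * g j = 1) (h : pureM f = pureM g) : f = g := by
  haveI : NeZero m := ⟨by omega⟩
  have e : pureM (f * g) * permM F m (1 : Equiv.Perm τ) = 1 := by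
    rw [permM_one, mul_one, ← pureM_mul, h, pureM_mul, ← pureM_one (τ := τ) (m := m) (F := F)]
    exact congrArg pureM (funext hg)
  funext j
  obtain ⟨c, hc⟩ := (eq_one_of_pure_perm hm e).2 j
  have h1 : f j = c • g j := by
    calc f j = f j * (g j * g j) := by rw [hg, mul_one]
      _ = c • g j := by rw [← mul_assoc, show f j * g j = c • 1 from hc, smul_mul_assoc, one_mul]
  haveI : Nonempty (Fin m) := ⟨0⟩
  have h3 : (c * c) • (1 : Matrix (Fin m) (Fin m) F) = (1 : F) • 1 := by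
    rw [one_smul]
    conv_rhs => rw [← hf j, h1, smul_mul_smul_comm, hg]
  have hcc : c * c = 1 := by
    have := congrFun₂ h3 0 0
    simpa using this
  have hc1 : c = 1 :=
    sub_eq_zero.1 (mul_self_eq_zero.1 (show (c - 1) * (c - 1) = 0 by linear_combination hcc - (c - 1) * h2))
  rw [h1, hc1, one_smul]

theorem root_sq_one (hJ : AForm J) (h2 : (2 : F) = 0) (u : Fin m → F) :
    (1 + nu J u) * (1 + nu J u) = 1 := by
  simp only [mul_add, add_mul, mul_one, one_mul, nu_sq hJ, add_zero]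
  linear_combination (norm := module) h2 • nu J u

/-- A rank one matrix is not the sum of two independent roots. -/
theorem nu_add_ne_vmv (hJ : AForm J) {u s : Fin m → F} (hu : u ≠ 0) (hs : ∀ c : F, s ≠ c • u)
    (x y : Fin m → F) : nu J u + nu J s ≠ Matrix.vecMulVec x y := by
  intro h
  obtain ⟨z, z1, z2⟩ := hJ.exists_perp_ne hu hs 1 0
  obtain ⟨z', z1', z2'⟩ := hJ.exists_perp_ne hu hs 0 1
  have h1 := congrArg (· *ᵥ z) h
  have h3 := congrArg (· *ᵥ z') h
  simp only [Matrix.add_mulVec, nu_mulVec, z1, z2, z1', z2', one_smul, zero_smul, add_zero, zero_add,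
    Matrix.vecMulVec_mulVec, op_smul_eq_smul] at h1 h3
  have hc : y ⬝ᵥ z ≠ 0 := fun e => hu (by rw [h1, e, zero_smul])
  exact hs (y ⬝ᵥ z' * (y ⬝ᵥ z)⁻¹) (by rw [h3, h1, smul_smul, mul_assoc, inv_mul_cancel₀ hc, mul_one])

theorem nu_add_ne_zero (hJ : AForm J) {u s : Fin m → F} (hu : u ≠ 0) (hs : ∀ c : F, s ≠ c • u) :
    nu J u + nu J s ≠ 0 := by
  have h := nu_add_ne_vmv hJ hu hs 0 0
  rwa [Matrix.zero_vecMulVec] at h

/-- Proportional vectors of equal roots. -/
theorem line_of_nu_eq (hJ : AForm J) {u a : Fin m → F} (hu : u ≠ 0) (h : nu J a = nu J u) :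
    ∃ c : F, u = c • a := by
  obtain ⟨z, hz⟩ := hJ.exists_form_ne hu
  refine ⟨(J *ᵥ a) ⬝ᵥ z, ?_⟩
  have := congrArg (· *ᵥ z) h
  simp only [nu_mulVec, hz, one_smul] at this
  exact this.symm

namespace Hyp

variable (H : Hyp J M)
include H

theorem exists_root (i : τ) {u : Fin m → F} (hu : u ≠ 0) : ∃ x ∈ M, IsRootAt J i u x := by
  obtain ⟨x, hx, hx'⟩ := H.emb i _ (H.hJ.sp_tv u 1)
  exact ⟨x, hx, hu, by rw [hx', tv_eq, one_smul, embM_add, embM_one]⟩

theorem root_sq {x : GL (Ix τ m) F} (hx : IsRoot J x) : x * x = 1 := by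
  obtain ⟨i, u, hu, hx⟩ := hx
  exact TensorWreath.Ctx.invol_sq H.two hx (by rw [embM_mul, nu_sq H.hJ, embM_zero])

theorem conj_sq {k : GL (Ix τ m) F} (hk : RootConj J M k) : k * k = 1 := by
  obtain ⟨g, -, x, -, hx, rfl⟩ := hk
  calc g * x * g⁻¹ * (g * x * g⁻¹) = g * (x * x) * g⁻¹ := by group
    _ = 1 := by rw [H.root_sq hx]; group

theorem rank_le {k : GL (Ix τ m) F} (hk : RootConj J M k) (i : τ) :
    (k.1 - 1).rank ≤ Fintype.card (Ix (Rest i) m) := by
  haveI := H.neZero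
  obtain ⟨g, -, x, -, ⟨o, u, -, hx⟩, rfl⟩ := hk
  rw [conj_val g hx, add_sub_cancel_left, rank_conj, card_rest i, ← card_rest o, nu]
  exact rank_embM_vecMulVec_le o _ _

theorem conj_ne_one {k : GL (Ix τ m) F} (hk : RootConj J M k) : k.1 - 1 ≠ 0 := by
  haveI := H.neZero
  obtain ⟨g, -, x, -, ⟨o, u, hu, hx⟩, rfl⟩ := hk
  rw [conj_val g hx, add_sub_cancel_left]
  intro h
  have h1 : embM o (nu J u) = (0 : Matrix (Ix τ m) (Ix τ m) F) := conj_inj g (by rw [mul_zero, zero_mul, h])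
  rw [← embM_zero (F := F) (m := m) o] at h1
  exact nu_ne_zero H.hJ hu (embM_injective o h1)

theorem conj_quad {k : GL (Ix τ m) F} (hk : RootConj J M k) : (k.1 - 1) * (k.1 - 1) = 0 := by
  rw [sq_of_char_two H.two, ← Units.val_mul, H.conj_sq hk, Units.val_one, sub_self]

/-- A monomial conjugate of a root is a root. -/
theorem root_of_mono [Nontrivial τ] {k : GL (Ix τ m) F} (hk : RootConj J M k) (hm : Mono k.1) : IsRoot J k := by
  haveI := H.neZero
  have h3 : 3 ≤ m := by have := H.six; omega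
  rcases classify h3 hm (H.conj_ne_one hk) (H.conj_quad hk) (H.rank_le hk) with ⟨j, u, v, hu, hv, h0, hX⟩ | ⟨-, e, -⟩
  swap
  · exact absurd e (by have := H.six; omega)
  have hkv : k.1 = 1 + embM j (Matrix.vecMulVec u v) := by rw [← hX, add_sub_cancel]
  have hT : Sp J (1 + Matrix.vecMulVec u v) := by
    have h : Sp (JJ J τ) k.1 := H.le k hk.mem
    rw [← sp_two j, show (TensorWreathU.two j k).1 =
        (1 : Matrix (Ix (Rest j) m) (Ix (Rest j) m) F) ⊗ₖ (1 + Matrix.vecMulVec u v) from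
      back_inj j (by rw [back_two, back_kron, hkv, ← embM_eq_ins, embM_add, embM_one])] at h
    unfold Sp at h ⊢
    rw [← Matrix.kroneckerMap_transpose, ← Matrix.mul_kronecker_mul, ← Matrix.mul_kronecker_mul,
      Matrix.transpose_one, Matrix.one_mul, Matrix.mul_one] at h
    haveI : Nonempty (Ix (Rest j) m) := ⟨fun _ => 0⟩
    exact TensorOrth.kron_left_cancel (fun e => TensorWreathS.det_JJ H.hJ (by rw [e, Matrix.det_zero])) h
  obtain ⟨w, hw⟩ : ∃ w, w = J *ᵥ u := ⟨_, rfl⟩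
  have hsym : Matrix.vecMulVec v w + Matrix.vecMulVec w v = 0 := by
    have h := hT
    unfold Sp at h
    rw [Matrix.transpose_add, Matrix.transpose_one, Matrix.transpose_vecMulVec, Matrix.add_mul, Matrix.one_mul,
      Matrix.vecMulVec_mul, H.hJ.vecMul_eq, neg_two H.two, ← hw, Matrix.mul_add, Matrix.mul_one, Matrix.add_mul,
      Matrix.mul_vecMulVec, ← hw, Matrix.vecMulVec_mul_vecMulVec, show w ⬝ᵥ u = 0 from hw ▸ H.hJ.self u,
      zero_smul, Matrix.vecMulVec_zero, add_zero] at h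
    linear_combination (norm := abel) h
  obtain ⟨p, hp⟩ : ∃ p, w p ≠ 0 := Function.ne_iff.1 (hw ▸ H.hJ.mulVec_ne hu)
  have hvw : v = (v p / w p) • w := by
    funext q
    have := congrFun₂ hsym p q
    rw [Matrix.add_apply, Matrix.vecMulVec_apply, Matrix.vecMulVec_apply, Matrix.zero_apply] at this
    rw [Pi.smul_apply, smul_eq_mul, div_mul_eq_mul_div, eq_div_iff hp]
    linear_combination this - (v p * w q) * H.two
  obtain ⟨d, hd⟩ := exists_sq H.two (v p / w p)
  refine ⟨j, d • u, smul_ne_zero (fun e => hv ?_) hu, ?_⟩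
  · rw [hvw, ← hd, e, mul_zero, zero_smul]
  · rw [hkv, nu_smul, hd, nu, ← Matrix.vecMulVec_smul, ← hw, ← hvw]

variable [Nontrivial τ] (hS : SmallAll J M) (hlow : Low J τ)
include hS hlow

theorem mono_of_commute_root {g x : GL (Ix τ m) F} (hg : g ∈ M) (hx : IsRoot J x) (h : g * x = x * g) : Mono g.1 := by
  obtain ⟨i, u, hu, hxv⟩ := hx
  exact H.mono_of_commute hS hlow hg hu ((commute_val_iff hxv).1 h)

theorem root_of_commute {k x : GL (Ix τ m) F} (hk : RootConj J M k) (hx : IsRoot J x) (h : k * x = x * k) :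
    IsRoot J k :=
  H.root_of_mono hk (H.mono_of_commute_root hS hlow hk.mem hx h)

/-- An element mapping a root to a root is monomial. -/
theorem mono_of_root_image {g x : GL (Ix τ m) F} (hg : g ∈ M) (hxM : x ∈ M) (hx : IsRoot J x)
    (hgx : IsRoot J (g * x * g⁻¹)) : Mono g.1 := by
  haveI := H.neZero
  obtain ⟨i, u, hu, hxv⟩ := hx
  have step : ∀ {a b : GL (Ix τ m) F}, b ∈ M → IsRoot J b → IsRoot J (g * a * g⁻¹) → a * b = b * a →
      IsRoot J (g * b * g⁻¹) := by
    intro a b hbM hb ha hab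
    refine H.root_of_commute hS hlow ((rootConj_of_root hb hbM).conj hg) ha ?_
    calc g * b * g⁻¹ * (g * a * g⁻¹) = g * (b * a) * g⁻¹ := by group
      _ = g * (a * b) * g⁻¹ := by rw [hab]
      _ = g * a * g⁻¹ * (g * b * g⁻¹) := by group
  have comm : ∀ {j l : τ}, j ≠ l → ∀ {a b : GL (Ix τ m) F} {s t : Fin m → F}, IsRootAt J j s a → IsRootAt J l t b →
      a * b = b * a := by
    intro j l hjl a b s t ha hb
    rw [commute_val_iff hb.2, ha.2, add_mul, mul_add, one_mul, mul_one, embM_comm hjl]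
  obtain ⟨l, hl⟩ := exists_ne i
  obtain ⟨y, hyM, hy⟩ := H.exists_root l hu
  have hgy := step hyM ⟨l, u, hy⟩ hgx (comm (Ne.symm hl) ⟨hu, hxv⟩ hy)
  refine mono_of_images H.hJ (by have := H.six; omega) fun j v => ?_
  obtain ⟨z, hzM, hz⟩ := H.exists_root j v.2
  have hgz : IsRoot J (g * z * g⁻¹) := by
    by_cases hji : j = i
    · subst hji
      exact step hzM ⟨j, v.1, hz⟩ hgy (comm hl hy hz)
    · exact step hzM ⟨j, v.1, hz⟩ hgx (comm (Ne.symm hji) ⟨hu, hxv⟩ hz)
  obtain ⟨p, a, ha, hav⟩ := hgz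
  refine ⟨p, a, 1, ha, one_ne_zero, ?_⟩
  rw [conj_val g hz.2, add_right_inj] at hav
  rw [one_smul, hav]

end Hyp

end CfsgLib.Classical.TensorWreathT
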